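import Cfsg.Agent.Lib.Helper1.C2Max_B0
import Cfsg.Agent.Lib.Helper5.C2Max_A

set_option autoImplicit false

/-!
# S5634, PK-B1: one cross-block elementary transvection is enough
-/

namespace Cfsg.Agent.Lib.Helper6.C2Max

open Matrix Cfsg.Agent.H9SLRoot

variable {F : Type*} [Field F]

namespace PkB

section general

variable {ι : Type*} [Fintype ι] [DecidableEq ι] {τ : Type*}

theorem single_dot_single_ne {i j : ι} (h : i ≠ j) :
    (Pi.single i (1 : F) : ι → F) ⬝ᵥ Pi.single j 1 = 0 := by
  rw [single_dotProduct, one_mul, Pi.single_eq_of_ne h]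

theorem single_dot_single_self (i : ι) :
    (Pi.single i (1 : F) : ι → F) ⬝ᵥ Pi.single i 1 = 1 := by
  rw [single_dotProduct, one_mul, Pi.single_eq_same]

/-- in-block elementary root subgroups -/
theorem tv_single_mem_of_blk {blk : ι → τ} {K : Subgroup (SpecialLinearGroup ι F)}
    (hK : OverB blk K) {x y : ι} (hxy : blk x = blk y) (c : F) :
    tv (Pi.single x 1) (Pi.single y 1) c ∈ K := by
  apply tv_mem_of_suppIn hK (i := blk y)
  · rw [← hxy]
    exact suppIn_single blk x 1
  · exact suppIn_single blk y 1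

/-- one cross-block elementary transvection gives the full elementary root subgroups for all
positions in the same pair of blocks -/
theorem full_of_cross (blk : ι → τ) {K : Subgroup (SpecialLinearGroup ι F)} (hK : OverB blk K)
    (hm : ∀ x : ι, ∃ x', x' ≠ x ∧ blk x' = blk x) (r c : ι) (hrc : blk r ≠ blk c) (lam : F)
    (hlam : lam ≠ 0) (h : tv (Pi.single r 1) (Pi.single c 1) lam ∈ K) (x y : ι)
    (hx : blk x = blk r) (hy : blk y = blk c) (μ : F) :
    tv (Pi.single x 1) (Pi.single y 1) μ ∈ K := by
  have hne : ∀ u v : ι, blk u = blk r → blk v = blk c → u ≠ v := by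
    intro u v hu hv huv
    apply hrc
    rw [← hu, ← hv, huv]
  -- step 1a
  have s1a : ∀ x, x ≠ r → blk x = blk r → ∀ μ, tv (Pi.single x 1) (Pi.single c 1) μ ∈ K := by
    intro x hxr hx μ
    exact rule_center (a := Pi.single x 1) (α := Pi.single r 1) (b := Pi.single r 1)
      (β := Pi.single c 1) (d := lam) (fun c' => tv_single_mem_of_blk hK hx c')
      (single_dot_single_ne (Ne.symm hxr)) (single_dot_single_ne (Ne.symm (hne r c rfl rfl)))
      h hlam (single_dot_single_ne (Ne.symm (hne x c hx rfl)))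
      (by rw [single_dot_single_self]; exact one_ne_zero) μ
  -- step 1b
  have s1 : ∀ x, blk x = blk r → ∀ μ, tv (Pi.single x 1) (Pi.single c 1) μ ∈ K := by
    intro x hx μ
    by_cases hxr : x = r
    · subst hxr
      obtain ⟨x', hx'1, hx'2⟩ := hm x
      exact rule_center (a := Pi.single x 1) (α := Pi.single x' 1) (b := Pi.single x' 1)
        (β := Pi.single c 1) (d := 1) (fun c' => tv_single_mem_of_blk hK hx'2.symm c')
        (single_dot_single_ne hx'1) (single_dot_single_ne (Ne.symm (hne x' c hx'2 rfl)))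
        (s1a x' hx'1 hx'2 1) one_ne_zero (single_dot_single_ne (Ne.symm (hne x c rfl rfl)))
        (by rw [single_dot_single_self]; exact one_ne_zero) μ
    · exact s1a x hxr hx μ
  -- step 2
  by_cases hyc : y = c
  · subst hyc
    exact s1 x hx μ
  · exact rule_axis (a := Pi.single c 1) (α := Pi.single y 1) (b := Pi.single x 1)
      (β := Pi.single c 1) (d := 1) (fun c' => tv_single_mem_of_blk hK hy.symm c')
      (single_dot_single_ne hyc) (single_dot_single_ne (Ne.symm (hne x c hx rfl)))
      (s1 x hx 1) one_ne_zero (single_dot_single_ne (Ne.symm (hne x y hx hy)))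
      (by rw [single_dot_single_self]; exact one_ne_zero) μ

end general

/-- the permutation of the index type induced by a permutation of the blocks -/
def blockPerm {t m : ℕ} (σ : Equiv.Perm (Fin t)) : Equiv.Perm (Σ _ : Fin t, Fin m) where
  toFun z := ⟨σ z.1, z.2⟩
  invFun z := ⟨σ.symm z.1, z.2⟩
  left_inv z := by
    rcases z with ⟨i, j⟩
    simp
  right_inv z := by
    rcases z with ⟨i, j⟩
    simp

@[simp] theorem blockPerm_apply {t m : ℕ} (σ : Equiv.Perm (Fin t)) (z : Σ _ : Fin t, Fin m) :
    blockPerm σ z = ⟨σ z.1, z.2⟩ := rfl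

theorem top_of_cross [Fintype F] {t m : ℕ} (hm : 2 ≤ m)
    (K : Subgroup (SpecialLinearGroup (Σ _ : Fin t, Fin m) F))
    (hK : OverB (Sigma.fst : (Σ _ : Fin t, Fin m) → Fin t) K)
    (r c : Σ _ : Fin t, Fin m) (hne : r ≠ c) (hrc : r.1 ≠ c.1) (lam : F) (hlam : lam ≠ 0)
    (h : SpecialLinearGroup.transvection hne lam ∈ K) : K = ⊤ := by
  classical
  haveI : Nontrivial (Σ _ : Fin t, Fin m) := ⟨⟨r, c, hne⟩⟩
  have hm' : ∀ x : Σ _ : Fin t, Fin m, ∃ x', x' ≠ x ∧ x'.1 = x.1 := by
    intro x
    obtain ⟨j, hj⟩ := Fintype.exists_ne_of_one_lt_card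
      (by rw [Fintype.card_fin]; omega : 1 < Fintype.card (Fin m)) x.2
    refine ⟨⟨x.1, j⟩, ?_, rfl⟩
    intro hx
    apply hj
    rw [← hx]
  rw [transvection_eq_tv] at h
  have hfull := full_of_cross (Sigma.fst : (Σ _ : Fin t, Fin m) → Fin t) hK hm' r c hrc lam hlam h
  apply Cfsg.Agent.Lib.Helper1.eq_top_of_transvection_mem
  intro x y hxy μ
  by_cases hb : x.1 = y.1
  · rw [transvection_eq_tv]
    exact tv_single_mem_of_blk hK hb μ
  · -- a block permutation
    obtain ⟨σ, hσ⟩ := exists_perm_extend ({r.1, c.1} : Finset (Fin t))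
      (fun i => if i = r.1 then x.1 else y.1) (by
        intro i hi i' hi' hii
        simp only [Finset.coe_insert, Finset.coe_singleton, Set.mem_insert_iff,
          Set.mem_singleton_iff] at hi hi'
        rcases hi with rfl | rfl <;> rcases hi' with rfl | rfl
        · rfl
        · simp only [if_neg (Ne.symm hrc)] at hii
          exact absurd hii hb
        · simp only [if_neg (Ne.symm hrc)] at hii
          exact absurd hii.symm hb
        · rfl)
    have hσr : σ r.1 = x.1 := by
      rw [hσ r.1 (by simp)]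
      simp
    have hσc : σ c.1 = y.1 := by
      rw [hσ c.1 (by simp)]
      simp [Ne.symm hrc]
    set π : Equiv.Perm (Σ _ : Fin t, Fin m) := blockPerm σ with hπ
    obtain ⟨d, hd0, hdet⟩ := exists_signs (F := F) π
    have hgK : monoSL π d hdet ∈ K := monoSL_memB hK π σ (fun _ => rfl) d hdet
    set x' : Σ _ : Fin t, Fin m := ⟨r.1, x.2⟩ with hx'
    set y' : Σ _ : Fin t, Fin m := ⟨c.1, y.2⟩ with hy'
    have hπx : π x' = x := by
      rw [hπ, blockPerm_apply]
      rcases x with ⟨x1, x2⟩
      simp only [hx']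
      rw [hσr]
    have hπy : π y' = y := by
      rw [hπ, blockPerm_apply]
      rcases y with ⟨y1, y2⟩
      simp only [hy']
      rw [hσc]
    have hxy' : x' ≠ y' := by
      intro hh
      apply hrc
      have := congrArg Sigma.fst hh
      exact this
    have h1 := PkA.mono_conj (monoSL π d hdet) π d rfl hd0 hxy' hxy hπx hπy (μ * d y' / d x')
    have h2 : d x' * (μ * d y' / d x') / d y' = μ := by
      have := hd0 x'
      have := hd0 y'
      field_simp
    rw [h2] at h1
    rw [← h1]
    refine K.mul_mem (K.mul_mem hgK ?_) (K.inv_mem hgK)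
    rw [transvection_eq_tv]
    exact hfull x' y' rfl rfl _

end PkB

end Cfsg.Agent.Lib.Helper6.C2Max
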