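import Mathlib
import Cfsg.Prelude.Def_GeometricClasses

set_option autoImplicit false

/-!
# S5634: the stabiliser of an `m`-decomposition is maximal in `SL_n(q)` — common definitions

Everything is done in coordinates: matrices over an arbitrary finite index type `ι`, subgroups of
`Matrix.SpecialLinearGroup ι F`.  The monomial / block-monomial groups are NOT introduced as
subgroups: we only use the predicates `IsMono`, `IsBM` on matrices.
-/

namespace Cfsg.Agent.Lib.Helper6.C2Max

open Matrix

variable {F : Type*} [Field F] {ι : Type*} [Fintype ι] [DecidableEq ι]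

/-- `A` is block-monomial for the block map `blk : ι → τ`: there is a permutation `σ` of the blocks
such that the column `c` of `A` is supported on the rows of the block `σ (blk c)`. -/
def IsBM {τ : Type*} (blk : ι → τ) (A : Matrix ι ι F) : Prop :=
  ∃ σ : Equiv.Perm τ, ∀ r c, A r c ≠ 0 → blk r = σ (blk c)

/-- `A` is monomial: there is a permutation `σ` such that the column `c` of `A` is supported on the
row `σ c`. -/
def IsMono (A : Matrix ι ι F) : Prop :=
  ∃ σ : Equiv.Perm ι, ∀ r c, A r c ≠ 0 → r = σ c

/-- `K` contains all monomial matrices of determinant one. -/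
def Over (K : Subgroup (SpecialLinearGroup ι F)) : Prop :=
  ∀ g : SpecialLinearGroup ι F, IsMono g.1 → g ∈ K

/-- `K` contains all block-monomial matrices of determinant one. -/
def OverB {τ : Type*} (blk : ι → τ) (K : Subgroup (SpecialLinearGroup ι F)) : Prop :=
  ∀ g : SpecialLinearGroup ι F, IsBM blk g.1 → g ∈ K

/-- `K` contains a nontrivial elementary transvection `1 + c E_ij`. -/
def HasTv (K : Subgroup (SpecialLinearGroup ι F)) : Prop :=
  ∃ (i j : ι) (hij : i ≠ j) (c : F), c ≠ 0 ∧ SpecialLinearGroup.transvection hij c ∈ K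

/-- `L ≤ GL_κ(F)` contains a nontrivial elementary transvection `1 + c E_ij`. -/
def HasTvGL {κ : Type*} [Fintype κ] [DecidableEq κ] (L : Subgroup (GL κ F)) : Prop :=
  ∃ (i j : κ) (_ : i ≠ j) (c : F), c ≠ 0 ∧ ∃ g ∈ L, (g : Matrix κ κ F) = 1 + Matrix.single i j c

/-- the diagonal matrix `d_ab(ε)`: `ε` at `a`, `ε⁻¹` at `b`, `1` elsewhere -/
def dmat (a b : ι) (ε : F) : Matrix ι ι F :=
  Matrix.diagonal (fun i => if i = a then ε else if i = b then ε⁻¹ else 1)

end Cfsg.Agent.Lib.Helper6.C2Max
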