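import Cfsg.Agent.Lib.Helper6.C2Max.Defs

set_option autoImplicit false

/-!
# S5634: basic facts on monomial matrices
-/

namespace Cfsg.Agent.Lib.Helper6.C2Max

open Matrix

variable {F : Type*} [Field F] {ι : Type*} [Fintype ι] [DecidableEq ι]

theorem isMono_diagonal (t : ι → F) : IsMono (Matrix.diagonal t) :=
  ⟨1, fun r c h => by
    by_contra hne
    exact h (Matrix.diagonal_apply_ne _ hne)⟩

/-- a matrix having a column with two nonzero entries is not monomial -/
theorem not_isMono_of_col {A : Matrix ι ι F} {a b j : ι} (hab : a ≠ b) (ha : A a j ≠ 0)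
    (hb : A b j ≠ 0) : ¬ IsMono A := by
  rintro ⟨π, h⟩
  exact hab ((h a j ha).trans (h b j hb).symm)

/-- a matrix having a row with two nonzero entries is not monomial -/
theorem not_isMono_of_row {A : Matrix ι ι F} {a b j : ι} (hab : a ≠ b) (ha : A j a ≠ 0)
    (hb : A j b ≠ 0) : ¬ IsMono A := by
  rintro ⟨π, h⟩
  exact hab (π.injective ((h j a ha).symm.trans (h j b hb)))

/-- a field with at least five elements has an element avoiding three given values -/
theorem exists_avoid3 [Fintype F] (hq : 5 ≤ Fintype.card F) (u v w : F) :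
    ∃ x : F, x ≠ u ∧ x ≠ v ∧ x ≠ w := by
  classical
  by_contra h
  push Not at h
  have hsub : (Finset.univ : Finset F) ⊆ {u, v, w} := by
    intro x _
    by_cases h1 : x = u
    · simp [h1]
    by_cases h2 : x = v
    · simp [h2]
    have := h x h1 h2
    simp [this]
  have h1 := Finset.card_le_card hsub
  have h3 : ({u, v, w} : Finset F).card ≤ 3 := Finset.card_le_three
  rw [Finset.card_univ] at h1
  omega

/-- the diagonal matrix `diag t` as an element of `SL` -/
def diagSL (t : ι → F) (h : ∏ i, t i = 1) : SpecialLinearGroup ι F :=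
  ⟨Matrix.diagonal t, by rw [det_diagonal, h]⟩

@[simp] theorem diagSL_val (t : ι → F) (h : ∏ i, t i = 1) :
    (diagSL t h).1 = Matrix.diagonal t := rfl

theorem diagSL_mem {K : Subgroup (SpecialLinearGroup ι F)} (hK : Over K) (t : ι → F)
    (h : ∏ i, t i = 1) : diagSL t h ∈ K :=
  hK _ (isMono_diagonal t)

/-- normalising one entry of a nowhere zero family to get product one -/
theorem prod_normalise (u : ι → F) (hu : ∀ i, u i ≠ 0) (a : ι) :
    ∏ i, (if i = a then (∏ r ∈ Finset.univ.erase a, u r)⁻¹ else u i) = 1 := by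
  classical
  rw [← Finset.mul_prod_erase Finset.univ _ (Finset.mem_univ a)]
  simp only [if_true]
  have : ∏ x ∈ Finset.univ.erase a, (if x = a then (∏ r ∈ Finset.univ.erase a, u r)⁻¹ else u x)
      = ∏ x ∈ Finset.univ.erase a, u x := by
    apply Finset.prod_congr rfl
    intro x hx
    rw [if_neg (Finset.ne_of_mem_erase hx)]
  rw [this]
  apply inv_mul_cancel₀
  exact Finset.prod_ne_zero_iff.2 fun i _ => hu i

/-! ### monomial matrices with a given permutation -/

/-- the monomial matrix with entry `d c` at the position `(π c, c)` -/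
def monoMat (π : Equiv.Perm ι) (d : ι → F) : Matrix ι ι F :=
  Matrix.of fun r c => if r = π c then d c else 0

theorem monoMat_apply (π : Equiv.Perm ι) (d : ι → F) (r c : ι) :
    monoMat π d r c = if r = π c then d c else 0 := rfl

theorem isMono_monoMat (π : Equiv.Perm ι) (d : ι → F) : IsMono (monoMat π d) :=
  ⟨π, fun r c h => by
    by_contra hne
    exact h (by rw [monoMat_apply, if_neg hne])⟩

theorem mul_monoMat_apply (A : Matrix ι ι F) (π : Equiv.Perm ι) (d : ι → F) (r c : ι) :
    (A * monoMat π d) r c = A r (π c) * d c := by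
  classical
  rw [Matrix.mul_apply, Finset.sum_eq_single (π c)]
  · rw [monoMat_apply, if_pos rfl]
  · intro b _ hb
    rw [monoMat_apply, if_neg hb, mul_zero]
  · intro h
    exact absurd (Finset.mem_univ _) h

theorem monoMat_mul_apply (A : Matrix ι ι F) (π : Equiv.Perm ι) (d : ι → F) (r c : ι) :
    (monoMat π d * A) r c = d (π.symm r) * A (π.symm r) c := by
  classical
  rw [Matrix.mul_apply, Finset.sum_eq_single (π.symm r)]
  · rw [monoMat_apply, if_pos (by simp)]
  · intro b _ hb
    rw [monoMat_apply, if_neg, zero_mul]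
    intro h
    exact hb (by rw [h]; simp)
  · intro h
    exact absurd (Finset.mem_univ _) h

theorem monoMat_eq (π : Equiv.Perm ι) (d : ι → F) :
    monoMat π d = (π⁻¹).permMatrix F * Matrix.diagonal d := by
  ext r c
  simp only [Matrix.mul_diagonal, monoMat_apply, Equiv.Perm.permMatrix, PEquiv.toMatrix_apply,
    Equiv.toPEquiv_apply, Option.mem_def, Option.some.injEq]
  by_cases h : r = π c
  · rw [if_pos h, if_pos (by rw [h]; simp), one_mul]
  · rw [if_neg h, if_neg, zero_mul]
    intro h'
    exact h (by rw [← h']; simp)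

theorem det_monoMat (π : Equiv.Perm ι) (d : ι → F) :
    (monoMat π d).det = ((Equiv.Perm.sign π : ℤˣ) : ℤ) * ∏ i, d i := by
  rw [monoMat_eq, Matrix.det_mul, Matrix.det_permutation, Matrix.det_diagonal,
    Equiv.Perm.sign_inv]

/-- every permutation is the permutation of a monomial matrix of determinant one with entries
`± 1` -/
theorem exists_signs (π : Equiv.Perm ι) :
    ∃ d : ι → F, (∀ i, d i ≠ 0) ∧ (monoMat π d).det = 1 := by
  classical
  rcases Int.units_eq_one_or (Equiv.Perm.sign π) with h | h
  · refine ⟨fun _ => 1, fun _ => one_ne_zero, ?_⟩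
    rw [det_monoMat, h]
    simp
  · have hne : π ≠ 1 := by
      rintro rfl
      rw [Equiv.Perm.sign_one] at h
      exact absurd h (by decide)
    obtain ⟨i₀, -⟩ : ∃ i, π i ≠ i := by
      by_contra hh
      push Not at hh
      exact hne (Equiv.ext hh)
    refine ⟨Function.update (fun _ => (1 : F)) i₀ (-1), fun i => ?_, ?_⟩
    · by_cases hi : i = i₀
      · subst hi
        simp
      · rw [Function.update_of_ne hi]
        exact one_ne_zero
    · rw [det_monoMat, h, Finset.prod_update_of_mem (Finset.mem_univ _)]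
      simp

/-- a monomial matrix of determinant one as an element of `SL` -/
def monoSL (π : Equiv.Perm ι) (d : ι → F) (h : (monoMat π d).det = 1) : SpecialLinearGroup ι F :=
  ⟨monoMat π d, h⟩

@[simp] theorem monoSL_val (π : Equiv.Perm ι) (d : ι → F) (h : (monoMat π d).det = 1) :
    (monoSL π d h).1 = monoMat π d := rfl

theorem monoSL_mem {K : Subgroup (SpecialLinearGroup ι F)} (hK : Over K) (π : Equiv.Perm ι)
    (d : ι → F) (h : (monoMat π d).det = 1) : monoSL π d h ∈ K :=
  hK _ (isMono_monoMat π d)

/-- an injective partial map extends to a permutation -/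
theorem exists_perm_extend (s : Finset ι) (f : ι → ι) (hf : Set.InjOn f s) :
    ∃ π : Equiv.Perm ι, ∀ i ∈ s, π i = f i := by
  classical
  obtain ⟨g, hg⟩ := Finset.exists_equiv_extend_of_card_eq (t := (Finset.univ : Finset ι))
    (by rw [Finset.card_univ]) (s := s) (f := f) (Finset.subset_univ _) hf
  refine ⟨g.trans (Equiv.subtypeUnivEquiv fun x => Finset.mem_univ x), fun i hi => ?_⟩
  rw [Equiv.trans_apply, Equiv.subtypeUnivEquiv_apply, hg i hi]

end Cfsg.Agent.Lib.Helper6.C2Max
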