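import Cfsg.Agent.Lib.Helper6.C2Max.G3

set_option autoImplicit false

/-!
# S5634, Theorem G, part 4: the endgame for `q = 5` and the theorem
-/

namespace Cfsg.Agent.Lib.Helper6.C2Max

open Matrix Cfsg.Agent.H9SLRoot

variable {F : Type*} [Field F] [Fintype F] {κ : Type*} [Fintype κ] [DecidableEq κ]

namespace PkG6

/-- (e4) a pair of weight at least two is impossible -/
theorem endgame (h3 : 3 ≤ Fintype.card κ) (hq : 5 ≤ Fintype.card F) {L : Subgroup (GL κ F)}
    (hL : ∀ g : GL κ F, IsMono (g : Matrix κ κ F) → g ∈ L) (hT : ¬ HasTvGL L)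
    {w φ : κ → F} (h : (w, φ) ∈ Pset L) (hs : 2 ≤ (vsupp w).card) : False := by
  classical
  have hq3 : 3 ≤ Fintype.card F := by omega
  have hs2 := wt_two hq hL hT h hs
  obtain ⟨o, i, hoi, hsupp⟩ := Finset.card_eq_two.1 hs2
  have hwo : w o ≠ 0 := by
    rw [← mem_vsupp, hsupp]
    simp
  have hwi : w i ≠ 0 := by
    rw [← mem_vsupp, hsupp]
    simp
  have hwr : ∀ r, r ≠ o → r ≠ i → w r = 0 := by
    intro r h1 h2
    by_contra h0
    have : r ∈ vsupp w := (mem_vsupp _ _).2 h0
    rw [hsupp] at this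
    simp only [Finset.mem_insert, Finset.mem_singleton] at this
    tauto
  obtain ⟨i', hi'o, hi'i⟩ := PkA.exists_third h3 o i
  -- the transposition `(i i')`
  have hone : ∀ k : κ, (fun _ : κ => (1 : F)) k ≠ 0 := fun _ => one_ne_zero
  have hp := pset_smul h (monoGL (Equiv.swap i i') (fun _ => 1) hone)
    (monoGL_mem hL (Equiv.swap i i') (fun _ => 1) hone)
  set w' : κ → F := ((monoGL (Equiv.swap i i') (fun _ => 1) hone : GL κ F) : Matrix κ κ F) *ᵥ w
    with hw'
  set φ' : κ → F := φ ᵥ* (((monoGL (Equiv.swap i i') (fun _ => 1) hone)⁻¹ : GL κ F) :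
    Matrix κ κ F) with hφ'
  have hw'app : ∀ r, w' r = w (Equiv.swap i i' r) := by
    intro r
    rw [hw', monoGL_coe, monoMat_mulVec, Equiv.symm_swap, one_mul]
  have hw'o : w' o = w o := by
    rw [hw'app, Equiv.swap_apply_of_ne_of_ne hoi (Ne.symm hi'o)]
  have hw'i' : w' i' = w i := by
    rw [hw'app, Equiv.swap_apply_right]
  have hw'i : w' i = 0 := by
    rw [hw'app, Equiv.swap_apply_left]
    exact hwr i' hi'o hi'i
  have hs' : 2 ≤ (vsupp w').card := by
    have : 1 < (vsupp w').card :=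
      Finset.one_lt_card.2 ⟨o, (mem_vsupp _ _).2 (by rw [hw'o]; exact hwo), i',
        (mem_vsupp _ _).2 (by rw [hw'i']; exact hwi), Ne.symm hi'o⟩
    omega
  have hs2' := wt_two hq hL hT hp hs'
  have hk' := pset_card hq3 hL hT hp o (by rw [hw'o]; exact hwo)
  rw [hs2', hw'o] at hk'
  push_cast at hk'
  have hφ'i : φ' i = 0 := pset_supp hq3 hL hT hp i hw'i
  -- the homology of the new pair
  obtain ⟨g', hg', o₀', hw'g, hφ'g⟩ := id hp
  simp only at hw'g hφ'g
  obtain ⟨ε, hε0, hε1, hεm⟩ := exists_avoid3 hq (0 : F) 1 (-1)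
  have hp2 := pset_smul h (homGL g' o₀' ε hε0) (homGL_mem hL hg' o₀' ε hε0)
  rw [homGL_mulVec, ← hw'g, ← hφ'g] at hp2
  have hdot : φ' ⬝ᵥ w = φ' o * w o := by
    show ∑ r, φ' r * w r = _
    rw [Finset.sum_eq_single o]
    · intro r _ hr
      by_cases hri : r = i
      · rw [hri, hφ'i, zero_mul]
      · rw [hwr r hr hri, mul_zero]
    · intro h0
      exact absurd (Finset.mem_univ _) h0
  rw [hdot] at hp2
  set c : F := (ε - 1) * (φ' o * w o) with hc
  have h2c : 2 * c = ε - 1 := by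
    rw [hc]
    linear_combination (ε - 1) * hk'
  have h2 : (2 : F) ≠ 0 := by
    intro h20
    rw [h20, zero_mul] at hk'
    exact zero_ne_one hk'
  have hc0 : c ≠ 0 := by
    intro h0
    rw [h0, mul_zero] at h2c
    exact hε1 (by linear_combination -h2c)
  have hc1 : 1 + c ≠ 0 := by
    intro h0
    apply hεm
    have : 2 * (1 + c) = 0 := by rw [h0, mul_zero]
    linear_combination this - h2c
  set v'' : κ → F := w + c • w' with hv''
  have e1 : v'' o ≠ 0 := by
    have : v'' o = w o * (1 + c) := by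
      simp only [hv'', Pi.add_apply, Pi.smul_apply, smul_eq_mul, hw'o]
      ring
    rw [this]
    exact mul_ne_zero hwo hc1
  have e2 : v'' i ≠ 0 := by
    have : v'' i = w i := by
      simp only [hv'', Pi.add_apply, Pi.smul_apply, smul_eq_mul, hw'i, mul_zero, add_zero]
    rw [this]
    exact hwi
  have e3 : v'' i' ≠ 0 := by
    have : v'' i' = c * w i := by
      simp only [hv'', Pi.add_apply, Pi.smul_apply, smul_eq_mul, hw'i', hwr i' hi'o hi'i,
        zero_add]
    rw [this]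
    exact mul_ne_zero hc0 hwi
  have h3' : 2 < (vsupp v'').card :=
    Finset.two_lt_card.2 ⟨o, (mem_vsupp _ _).2 e1, i, (mem_vsupp _ _).2 e2, i',
      (mem_vsupp _ _).2 e3, hoi, Ne.symm hi'o, Ne.symm hi'i⟩
  have := wt_two hq hL hT hp2 (by omega)
  omega

end PkG6

/-- Theorem G (helper9): an overgroup in `GL_κ(F)` of the full monomial group, `|κ| ≥ 3`,
`q ≥ 5`, is monomial or contains an elementary transvection (second write-up, helper6) -/
theorem thmG_h6 {κ : Type*} [Fintype κ] [DecidableEq κ] (h3 : 3 ≤ Fintype.card κ)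
    (hq : 5 ≤ Fintype.card F) (L : Subgroup (GL κ F))
    (hL : ∀ g : GL κ F, IsMono (g : Matrix κ κ F) → g ∈ L) :
    (∀ g ∈ L, IsMono (g : Matrix κ κ F)) ∨ HasTvGL L := by
  by_cases hT : HasTvGL L
  · exact Or.inr hT
  · left
    by_contra hnm
    obtain ⟨v, φ, hp, hs⟩ := PkG6.exists_two hnm
    exact PkG6.endgame h3 hq hL hT hp hs

end Cfsg.Agent.Lib.Helper6.C2Max
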