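import Cfsg.Agent.Lib.Helper6.C2Max.F1core
import Cfsg.Agent.Lib.Helper5.C2Max_DUAL
import Cfsg.Agent.Lib.Helper3.C2Max_D3a
import Cfsg.Agent.Lib.Helper6.C2Max.G4

set_option autoImplicit false

/-!
# S5634, PK-F1: a column (row) of a non-monomial element has at most one zero
-/

namespace Cfsg.Agent.Lib.Helper6.C2Max

open Matrix

variable {F : Type*} [Field F] [Fintype F] {ι : Type*} [Fintype ι] [DecidableEq ι]

/-- PK-D3 (helper3), from Theorem G (helper9; in the write-up `thmG_h6`) -/
theorem mono_of_col (h13 : 13 ≤ Fintype.card ι) (hq : 5 ≤ Fintype.card F)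
    {K : Subgroup (SpecialLinearGroup ι F)} (hK : Over K) (hT : ¬ HasTv K)
    (g : SpecialLinearGroup ι F) (hg : g ∈ K) (j j' : ι) (hcol : ∀ r, r ≠ j' → g.1 r j = 0) :
    IsMono g.1 := by
  classical
  refine PkD.mono_of_col_core h13 hq hK hT g hg j j' hcol fun L hL => thmG_h6 ?_ hq L hL
  have h1 : Fintype.card {i : ι // i ≠ j} = Fintype.card ι - 1 := by
    rw [Fintype.card_subtype_compl, Fintype.card_subtype_eq]
  omega

theorem col_zero_unique (h13 : 13 ≤ Fintype.card ι) (hq : 5 ≤ Fintype.card F)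
    {K : Subgroup (SpecialLinearGroup ι F)} (hK : Over K) (hT : ¬ HasTv K)
    (y : SpecialLinearGroup ι F) (hy : y ∈ K) (hnm : ¬ IsMono y.1) (j a b : ι) (hab : a ≠ b)
    (ha : y.1 a j = 0) (hb : y.1 b j = 0) : False :=
  PkF1.col_zero_unique_of (by omega) hq hK
    (fun g hg j j' h => mono_of_col h13 hq hK hT g hg j j' h) y hy hnm j a b hab ha hb

/-- by duality -/
theorem row_zero_unique (h13 : 13 ≤ Fintype.card ι) (hq : 5 ≤ Fintype.card F)
    {K : Subgroup (SpecialLinearGroup ι F)} (hK : Over K) (hT : ¬ HasTv K)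
    (y : SpecialLinearGroup ι F) (hy : y ∈ K) (hnm : ¬ IsMono y.1) (j a b : ι) (hab : a ≠ b)
    (ha : y.1 j a = 0) (hb : y.1 j b = 0) : False := by
  obtain ⟨K', hK'mem, hK'over, hK'tv⟩ := exists_dual K
  have hy' : SpecialLinearGroup.transpose y ∈ K' := by
    rw [hK'mem]
    have : SpecialLinearGroup.transpose (SpecialLinearGroup.transpose y) = y := by
      apply Subtype.ext
      simp [SpecialLinearGroup.transpose]
    rw [this]
    exact hy
  have hnm' : ¬ IsMono (SpecialLinearGroup.transpose y).1 := by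
    intro h
    apply hnm
    have h2 : (SpecialLinearGroup.transpose y).1 = y.1ᵀ := rfl
    rw [h2] at h
    exact (isMono_transpose y.1).1 h
  exact col_zero_unique h13 hq (hK'over hK) (fun h => hT (hK'tv h))
    (SpecialLinearGroup.transpose y) hy' hnm' j a b hab ha hb

end Cfsg.Agent.Lib.Helper6.C2Max
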