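import Cfsg.Agent.Lib.Helper6.C2Max.Basic

set_option autoImplicit false

/-!
# S5634, PK-F1 (core): a column of a non-monomial element has at most one zero

The statements here take the conclusion of PK-D3 (`mono_of_col`) as a hypothesis `hD`.
-/

namespace Cfsg.Agent.Lib.Helper6.C2Max

open Matrix

variable {F : Type*} [Field F] [Fintype F] {ι : Type*} [Fintype ι] [DecidableEq ι]

namespace PkF1

/-- an element of order at least four -/
theorem exists_eps (hq : 5 ≤ Fintype.card F) : ∃ ε : F, ε ≠ 0 ∧ ε ^ 2 ≠ 1 ∧ ε ^ 3 ≠ 1 := by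
  classical
  obtain ⟨g, hg⟩ := IsCyclic.exists_generator (α := Fˣ)
  have ho : orderOf g = Fintype.card F - 1 := by
    rw [orderOf_eq_card_of_forall_mem_zpowers hg, Nat.card_eq_fintype_card, Fintype.card_units]
  have key : ∀ k : ℕ, 0 < k → k < 4 → (g : F) ^ k ≠ 1 := by
    intro k hk0 hk4 h
    have h1 : g ^ k = 1 := by
      apply Units.ext
      rw [Units.val_pow_eq_pow_val, h, Units.val_one]
    have h2 := orderOf_dvd_of_pow_eq_one h1
    have h3 := Nat.le_of_dvd hk0 h2
    omega
  exact ⟨(g : F), g.ne_zero, key 2 (by norm_num) (by norm_num), key 3 (by norm_num) (by norm_num)⟩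

omit [Fintype F] in
/-- the torus element `d_ab(ε)` has determinant one -/
theorem prod_dab (a b : ι) (hab : a ≠ b) (ε : F) (hε : ε ≠ 0) :
    ∏ i, (if i = a then ε else if i = b then ε⁻¹ else 1) = 1 := by
  classical
  have h : ∀ i, (if i = a then ε else if i = b then ε⁻¹ else 1) =
      (if i = a then ε else 1) * (if i = b then ε⁻¹ else 1) := by
    intro i
    by_cases h1 : i = a
    · subst h1
      simp [hab]
    · by_cases h2 : i = b
      · subst h2
        simp [h1]
      · simp [h1, h2]
  rw [Finset.prod_congr rfl fun i _ => h i, Finset.prod_mul_distrib, Finset.prod_ite_eq',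
    Finset.prod_ite_eq', if_pos (Finset.mem_univ _), if_pos (Finset.mem_univ _),
    mul_inv_cancel₀ hε]

/-- the dichotomy: if the column `j` of a non-monomial `y ∈ K` vanishes in the rows `a ≠ b`, then
every column of `y` is supported in `{a, b}` or avoids `{a, b}`, and some column has support
exactly `{a, b}`. -/
theorem dich (hq : 5 ≤ Fintype.card F)
    {K : Subgroup (SpecialLinearGroup ι F)} (hK : Over K)
    (hD : ∀ g : SpecialLinearGroup ι F, g ∈ K → ∀ j j' : ι, (∀ r, r ≠ j' → g.1 r j = 0) →
      IsMono g.1)
    (y : SpecialLinearGroup ι F) (hy : y ∈ K) (hnm : ¬ IsMono y.1) (j a b : ι) (hab : a ≠ b)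
    (ha : y.1 a j = 0) (hb : y.1 b j = 0) :
    (∀ c, (∀ i, i ≠ a → i ≠ b → y.1 i c = 0) ∨ (y.1 a c = 0 ∧ y.1 b c = 0)) ∧
      ∃ c, y.1 a c ≠ 0 ∧ y.1 b c ≠ 0 ∧ ∀ i, i ≠ a → i ≠ b → y.1 i c = 0 := by
  classical
  obtain ⟨ε, hε0, hε2, hε3⟩ := exists_eps (F := F) hq
  set t : ι → F := fun i => if i = a then ε else if i = b then ε⁻¹ else 1 with ht
  have hta : t a = ε := by simp [ht]
  have htb : t b = ε⁻¹ := by simp [ht, Ne.symm hab]
  have hto : ∀ i, i ≠ a → i ≠ b → t i = 1 := by
    intro i h1 h2
    simp [ht, h1, h2]
  have ht0 : ∀ i, t i ≠ 0 := by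
    intro i
    by_cases h1 : i = a
    · rw [h1, hta]; exact hε0
    · by_cases h2 : i = b
      · rw [h2, htb]; exact inv_ne_zero hε0
      · rw [hto i h1 h2]; exact one_ne_zero
  have hε1 : ε ≠ 1 := by
    rintro rfl
    exact hε2 (one_pow 2)
  have hεinv : ε⁻¹ ≠ ε := by
    intro h
    apply hε2
    field_simp at h
    exact h.symm
  have hεinv1 : ε⁻¹ ≠ 1 := by
    intro h
    exact hε1 (inv_eq_one.1 h)
  set s : F := 1 + ε + ε⁻¹ with hs
  have hpoly : ∀ i, t i ^ 3 - s * t i ^ 2 + s * t i - 1 = 0 := by
    intro i
    by_cases h1 : i = a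
    · rw [h1, hta, hs]
      field_simp
      ring
    · by_cases h2 : i = b
      · rw [h2, htb, hs]
        field_simp
        ring
      · rw [hto i h1 h2]
        ring
  have hs0 : s ≠ 0 := by
    intro h
    apply hε3
    rw [hs] at h
    field_simp at h
    linear_combination (ε - 1) * h
  have htprod : ∏ i, t i = 1 := prod_dab a b hab ε hε0
  -- the conjugate of the torus element
  set M : SpecialLinearGroup ι F := y⁻¹ * diagSL t htprod * y with hM
  have hMK : M ∈ K := K.mul_mem (K.mul_mem (K.inv_mem hy) (diagSL_mem hK t htprod)) hy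
  have hyM : y.1 * M.1 = Matrix.diagonal t * y.1 := by
    have : y * M = diagSL t htprod * y := by
      rw [hM]
      group
    have h2 := congrArg Subtype.val this
    simpa using h2
  have hycol : ∀ k, (Matrix.diagonal t * y.1) k j = y.1 k j := by
    intro k
    rw [Matrix.diagonal_mul]
    by_cases h1 : k = a
    · rw [h1, ha, mul_zero]
    · by_cases h2 : k = b
      · rw [h2, hb, mul_zero]
      · rw [hto k h1 h2, one_mul]
  have hMcol : ∀ r, M.1 r j = if r = j then 1 else 0 := by
    intro r
    have h1 : M.1 = (y⁻¹).1 * (Matrix.diagonal t * y.1) := by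
      rw [hM]
      simp [Matrix.mul_assoc]
    have h2 : (y⁻¹).1 * y.1 = 1 := congrArg Subtype.val (inv_mul_cancel y)
    rw [h1, Matrix.mul_apply, Finset.sum_congr rfl fun k _ => by rw [hycol k],
      ← Matrix.mul_apply, h2, Matrix.one_apply]
  have hMmono : IsMono M.1 :=
    hD M hMK j j fun r hr => by rw [hMcol, if_neg hr]
  obtain ⟨π, hπ⟩ := hMmono
  set μ : ι → F := fun c => M.1 (π c) c with hμ
  -- (∗∗)
  have hstar : ∀ i c, t i * y.1 i c = y.1 i (π c) * μ c := by
    intro i c
    have h1 := congrFun (congrFun hyM i) c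
    rw [Matrix.diagonal_mul, Matrix.mul_apply, Finset.sum_eq_single (π c)] at h1
    · exact h1.symm
    · intro k _ hk
      have : M.1 k c = 0 := by
        by_contra h
        exact hk (hπ k c h)
      rw [this, mul_zero]
    · intro h
      exact absurd (Finset.mem_univ _) h
  have hdet : y.1.det ≠ 0 := by rw [y.2]; exact one_ne_zero
  have hμ0 : ∀ c, μ c ≠ 0 := by
    intro c h
    apply hdet
    apply Matrix.det_eq_zero_of_column_eq_zero c
    intro i
    have := hstar i c
    rw [h, mul_zero] at this
    exact (mul_eq_zero.1 this).resolve_left (ht0 i)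
  -- a monomial column is impossible
  have hnocol : ∀ c r, (∀ i, i ≠ r → y.1 i c = 0) → False := fun c r h =>
    hnm (hD y hy c r h)
  -- the cycle structure of `π`
  have hcyc : ∀ c, π c = c ∨ (π (π c) = c ∧ μ c * μ (π c) = -s ∧ s ^ 2 = 1) := by
    intro c
    by_cases hc : π c = c
    · exact Or.inl hc
    right
    set v : ι → F := fun k => (if k = π (π (π c)) then μ c * μ (π c) * μ (π (π c)) else 0) -
      (if k = π (π c) then s * (μ c * μ (π c)) else 0) + (if k = π c then s * μ c else 0) -
      (if k = c then 1 else 0) with hv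
    have hyv : y.1 *ᵥ v = 0 := by
      ext i
      have e1 := hstar i c
      have e2 := hstar i (π c)
      have e3 := hstar i (π (π c))
      have hp := hpoly i
      simp only [Matrix.mulVec, dotProduct, hv, Pi.zero_apply]
      simp only [mul_sub, mul_add, mul_ite, mul_zero, Finset.sum_sub_distrib,
        Finset.sum_add_distrib, Finset.sum_ite_eq', Finset.mem_univ, if_true]
      linear_combination (y.1 i c) * hp - (t i ^ 2 - s * t i + s) * e1
        - μ c * (t i - s) * e2 - μ c * μ (π c) * e3
    have hv0 := Matrix.eq_zero_of_mulVec_eq_zero hdet hyv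
    have hc' : c ≠ π c := fun h => hc h.symm
    have h21 : π (π c) ≠ π c := fun h => hc (π.injective h)
    by_cases hcc : π (π c) = c
    · have hv1 := congrFun hv0 c
      have hv2 := congrFun hv0 (π c)
      simp only [hv, Pi.zero_apply, hcc, if_neg hc', if_neg hc, if_true] at hv1 hv2
      have h5 : μ c * μ (π c) = -s := by
        have : μ c * (μ c * μ (π c) + s) = 0 := by linear_combination hv2
        rcases mul_eq_zero.1 this with h | h
        · exact absurd h (hμ0 c)
        · linear_combination h
      refine ⟨hcc, h5, ?_⟩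
      rw [h5] at hv1
      linear_combination hv1
    · exfalso
      have hv2 := congrFun hv0 (π c)
      have h31 : π c ≠ π (π (π c)) := fun h => hcc (π.injective h).symm
      simp only [hv, Pi.zero_apply, if_neg h31, if_neg (Ne.symm h21), if_neg hc, if_true]
        at hv2
      have : s * μ c = 0 := by linear_combination hv2
      rcases mul_eq_zero.1 this with h | h
      · exact hs0 h
      · exact hμ0 c h
  -- the dichotomy for the columns
  have hdich : ∀ c, (∀ i, i ≠ a → i ≠ b → y.1 i c = 0) ∨ (y.1 a c = 0 ∧ y.1 b c = 0) := by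
    intro c
    rcases hcyc c with hc | ⟨hcc, hμμ, hss⟩
    · -- a fixed column is an eigenvector
      right
      have heig : ∀ i, (t i - μ c) * y.1 i c = 0 := by
        intro i
        have := hstar i c
        rw [hc] at this
        linear_combination this
      constructor
      · by_contra hac
        have h1 : t a - μ c = 0 := (mul_eq_zero.1 (heig a)).resolve_right hac
        apply hnocol c a
        intro i hi
        refine (mul_eq_zero.1 (heig i)).resolve_left ?_
        intro h2
        have h3 : t i = t a := by linear_combination h2 - h1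
        rw [hta] at h3
        by_cases hib : i = b
        · rw [hib, htb] at h3
          exact hεinv h3
        · rw [hto i hi hib] at h3
          exact hε1 h3.symm
      · by_contra hbc
        have h1 : t b - μ c = 0 := (mul_eq_zero.1 (heig b)).resolve_right hbc
        apply hnocol c b
        intro i hi
        refine (mul_eq_zero.1 (heig i)).resolve_left ?_
        intro h2
        have h3 : t i = t b := by linear_combination h2 - h1
        rw [htb] at h3
        by_cases hia : i = a
        · rw [hia, hta] at h3
          exact hεinv h3.symm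
        · rw [hto i hia hi] at h3
          exact hεinv1 h3.symm
    · -- a column in a two-cycle
      left
      intro i hia hib
      have e1 := hstar i c
      have e2 := hstar i (π c)
      rw [hcc] at e2
      rw [hto i hia hib, one_mul] at e1 e2
      -- `s = 1` and `2 ≠ 0`
      have hε21 : ε ^ 2 = -1 := by
        have h1 : (ε ^ 2 + 1) * (ε + 1) ^ 2 = 0 := by
          have : s ^ 2 - 1 = 0 := by rw [hss, sub_self]
          rw [hs] at this
          field_simp at this
          linear_combination this
        rcases mul_eq_zero.1 h1 with h | h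
        · linear_combination h
        · exfalso
          apply hε2
          have : ε + 1 = 0 := by
            rcases pow_eq_zero_iff (two_ne_zero) |>.1 h with h'
            exact h'
          have : ε = -1 := by linear_combination this
          rw [this]
          norm_num
      have hs1 : s = 1 := by
        rw [hs]
        field_simp
        linear_combination hε21
      have h2 : (2 : F) ≠ 0 := by
        intro h
        apply hε2
        rw [hε21]
        linear_combination -h
      have : (2 : F) * y.1 i c = 0 := by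
        have e3 : y.1 i c * (μ c * μ (π c)) = y.1 i c := by
          rw [← mul_assoc, mul_comm (y.1 i c) (μ c)]
          calc μ c * y.1 i c * μ (π c) = μ c * (y.1 i c * μ (π c)) := by ring
            _ = μ c * y.1 i (π c) := by rw [← e2]
            _ = y.1 i c := by rw [mul_comm, ← e1]
        rw [hμμ, hs1] at e3
        linear_combination -e3
      exact (mul_eq_zero.1 this).resolve_left h2
  refine ⟨hdich, ?_⟩
  -- a column with a nonzero entry in the row `a`
  obtain ⟨c, hc⟩ : ∃ c, y.1 a c ≠ 0 := by
    by_contra h
    push Not at h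
    apply hdet
    rw [← Matrix.det_transpose]
    apply Matrix.det_eq_zero_of_column_eq_zero a
    intro i
    rw [Matrix.transpose_apply]
    exact h i
  rcases hdich c with h | h
  · refine ⟨c, hc, ?_, h⟩
    intro hbc
    apply hnocol c a
    intro i hia
    by_cases hib : i = b
    · rw [hib]; exact hbc
    · exact h i hia hib
  · exact absurd h.1 hc

/-- `col_zero_unique` from the conclusion of `mono_of_col` -/
theorem col_zero_unique_of (h5 : 5 ≤ Fintype.card ι) (hq : 5 ≤ Fintype.card F)
    {K : Subgroup (SpecialLinearGroup ι F)} (hK : Over K)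
    (hD : ∀ g : SpecialLinearGroup ι F, g ∈ K → ∀ j j' : ι, (∀ r, r ≠ j' → g.1 r j = 0) →
      IsMono g.1)
    (y : SpecialLinearGroup ι F) (hy : y ∈ K) (hnm : ¬ IsMono y.1) (j a b : ι) (hab : a ≠ b)
    (ha : y.1 a j = 0) (hb : y.1 b j = 0) : False := by
  classical
  obtain ⟨-, r, hra, hrb, hr⟩ := dich hq hK hD y hy hnm j a b hab ha hb
  -- three further rows
  have hcard : 2 < ((Finset.univ : Finset ι) \ {a, b}).card := by
    have h1 := Finset.le_card_sdiff ({a, b} : Finset ι) Finset.univ
    have h2 : ({a, b} : Finset ι).card ≤ 2 := Finset.card_le_two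
    rw [Finset.card_univ] at h1
    omega
  obtain ⟨a', ha', b', hb', b'', hb'', h1, h2, h3⟩ := Finset.two_lt_card.1 hcard
  simp only [Finset.mem_sdiff, Finset.mem_univ, true_and, Finset.mem_insert,
    Finset.mem_singleton, not_or] at ha' hb' hb''
  obtain ⟨hd1, -⟩ := dich hq hK hD y hy hnm r a' b' h1 (hr a' ha'.1 ha'.2)
    (hr b' hb'.1 hb'.2)
  obtain ⟨-, r'', hr1, hr2, -⟩ := dich hq hK hD y hy hnm r a' b'' h2 (hr a' ha'.1 ha'.2)
    (hr b'' hb''.1 hb''.2)
  rcases hd1 r'' with h | h
  · exact hr2 (h b'' (Ne.symm h2) (Ne.symm h3))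
  · exact hr1 h.1

end PkF1

end Cfsg.Agent.Lib.Helper6.C2Max
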