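import Cfsg.Agent.Lib.Helper6.C2Max.Basic

set_option autoImplicit false

/-!
# S5634, PK-F3 (core): the rank one structure of a non-monomial element

The statement here takes the conclusions of PK-F1 and PK-F2 as hypotheses.
-/

namespace Cfsg.Agent.Lib.Helper6.C2Max

open Matrix

variable {F : Type*} [Field F] [Fintype F] {ι : Type*} [Fintype ι] [DecidableEq ι]

namespace PkF3

omit [Fintype F] in
/-- a zero pattern with at most one zero in every row and in every column lies on the graph of a
permutation -/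
theorem exists_perm_zero (y : Matrix ι ι F)
    (hrow : ∀ j a b, a ≠ b → y j a = 0 → y j b = 0 → False)
    (hcol : ∀ j a b, a ≠ b → y a j = 0 → y b j = 0 → False) :
    ∃ π : Equiv.Perm ι, ∀ a b, y a b = 0 → b = π a := by
  classical
  let f : ι → ι := fun a => if h : ∃ b, y a b = 0 then h.choose else a
  have hf : ∀ a b, y a b = 0 → f a = b := by
    intro a b hab
    have h : ∃ b, y a b = 0 := ⟨b, hab⟩
    simp only [f, dif_pos h]
    by_contra hne
    exact hrow a _ _ hne h.choose_spec hab
  let s : Finset ι := Finset.univ.filter fun a => ∃ b, y a b = 0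
  have hinj : Set.InjOn f s := by
    intro a ha a' ha' heq
    simp only [s, Finset.coe_filter, Finset.mem_univ, true_and, Set.mem_setOf_eq] at ha ha'
    obtain ⟨b, hb⟩ := ha
    obtain ⟨b', hb'⟩ := ha'
    have h1 := hf a b hb
    have h2 := hf a' b' hb'
    by_contra hne
    have : b = b' := by rw [← h1, ← h2, heq]
    subst this
    exact hcol b a a' hne hb hb'
  obtain ⟨π, hπ⟩ := exists_perm_extend s f hinj
  refine ⟨π, fun a b hab => ?_⟩
  rw [hπ a (by simp only [s, Finset.mem_filter, Finset.mem_univ, true_and]; exact ⟨b, hab⟩),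
    hf a b hab]

omit [Fintype F] in
/-- a matrix whose off-diagonal entries are nonzero and whose `2 × 2` minors with nonzero entries
vanish has rank one off its zeros -/
theorem rankone_of_minors (h4 : 4 ≤ Fintype.card ι) (y : Matrix ι ι F)
    (hoff : ∀ a b, a ≠ b → y a b ≠ 0)
    (hQ : ∀ a a' c c', y a c ≠ 0 → y a c' ≠ 0 → y a' c ≠ 0 → y a' c' ≠ 0 →
      y a c * y a' c' = y a c' * y a' c) :
    ∃ ρ σ : ι → F, (∀ a, ρ a ≠ 0) ∧ (∀ a, σ a ≠ 0) ∧ ∀ a b, y a b ≠ 0 → y a b = ρ a * σ b := by
  classical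
  obtain ⟨p, -, u, -, v, -, hpu, hpv, huv⟩ :=
    Finset.two_lt_card.1 (by rw [Finset.card_univ]; omega : 2 < (Finset.univ : Finset ι).card)
  obtain ⟨w, hw⟩ : ∃ w, w ∉ ({p, u, v} : Finset ι) := by
    by_contra h
    push Not at h
    have h1 : (Finset.univ : Finset ι) ⊆ {p, u, v} := fun x _ => h x
    have h2 := Finset.card_le_card h1
    have h3 : ({p, u, v} : Finset ι).card ≤ 3 := Finset.card_le_three
    rw [Finset.card_univ] at h2
    omega
  simp only [Finset.mem_insert, Finset.mem_singleton, not_or] at hw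
  obtain ⟨hwp, hwu, hwv⟩ := hw
  have ypv := hoff p v hpv
  have ypu := hoff p u hpu
  have yup := hoff u p (Ne.symm hpu)
  have yuv := hoff u v huv
  have yvu := hoff v u (Ne.symm huv)
  have yvp := hoff v p (Ne.symm hpv)
  have ypw := hoff p w (Ne.symm hwp)
  have yuw := hoff u w (Ne.symm hwu)
  have yvw := hoff v w (Ne.symm hwv)
  refine ⟨fun a => if a = v then y v u / y p u else y a v / y p v,
    fun b => if b = p then y u p * y p v / y u v else y p b, ?_, ?_, ?_⟩
  · intro a
    dsimp only
    split_ifs with h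
    · exact div_ne_zero yvu ypu
    · exact div_ne_zero (hoff a v h) ypv
  · intro b
    dsimp only
    split_ifs with h
    · exact div_ne_zero (mul_ne_zero yup ypv) yuv
    · exact hoff p b (Ne.symm h)
  · intro a b hab
    dsimp only
    by_cases hb : b = p
    · subst hb
      rw [if_pos rfl]
      by_cases ha : a = v
      · subst ha
        rw [if_pos rfl]
        have e1 := hQ a u b w yvp yvw yup yuw
        have e2 := hQ a b u w yvu yvw ypu ypw
        have e3 := hQ u b a w yuv yuw ypv ypw
        field_simp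
        have : (y a b * y u w) * (y a w * y b u) * (y u a * y b w) =
            (y a w * y u b) * (y a u * y b w) * (y u w * y b a) := by
          rw [e1, ← e2, e3]
        have hne : y u w * y a w * y b w ≠ 0 := mul_ne_zero (mul_ne_zero yuw yvw) ypw
        apply mul_right_cancel₀ hne
        linear_combination this
      · rw [if_neg ha]
        have yav := hoff a v ha
        have e1 := hQ a u b v hab yav yup yuv
        field_simp
        linear_combination e1
    · rw [if_neg hb]
      have ypb := hoff p b (Ne.symm hb)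
      by_cases ha : a = v
      · subst ha
        rw [if_pos rfl]
        have e1 := hQ a p b u hab yvu ypb ypu
        field_simp
        linear_combination e1
      · rw [if_neg ha]
        have yav := hoff a v ha
        have e1 := hQ a p b v hab yav ypb ypv
        field_simp
        linear_combination e1

omit [Fintype F] in
/-- an invertible matrix of the rank one shape has at most one index outside `S` -/
theorem eq_of_not_mem (y : Matrix ι ι F) (hdet : y.det ≠ 0) (ρ σ : ι → F) (S : Finset ι)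
    (hρ : ∀ a, ρ a ≠ 0)
    (hform : ∀ a b, y a b = if a = b ∧ a ∈ S then 0 else ρ a * σ b) (a a' : ι) (ha : a ∉ S)
    (ha' : a' ∉ S) : a = a' := by
  classical
  by_contra hne
  have hv : (Pi.single a (ρ a') - Pi.single a' (ρ a)) ᵥ* y = 0 := by
    ext b
    rw [Matrix.sub_vecMul, Matrix.single_vecMul, Matrix.single_vecMul]
    simp only [Pi.sub_apply, Pi.smul_apply, Matrix.row_apply, smul_eq_mul, Pi.zero_apply]
    rw [hform a b, hform a' b, if_neg (fun h => ha h.2), if_neg (fun h => ha' h.2)]
    ring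
  have h0 := Matrix.eq_zero_of_vecMul_eq_zero hdet hv
  have h1 := congrFun h0 a
  simp only [Pi.sub_apply, Pi.single_eq_same, Pi.zero_apply] at h1
  rw [Pi.single_eq_of_ne hne, sub_zero] at h1
  exact hρ a' h1

/-- `exists_rankone` from the conclusions of `col_zero_unique`, `row_zero_unique`, `minor_zero` -/
theorem exists_rankone_of (h13 : 13 ≤ Fintype.card ι)
    {K : Subgroup (SpecialLinearGroup ι F)} (hK : Over K)
    (hcol : ∀ y : SpecialLinearGroup ι F, y ∈ K → ¬ IsMono y.1 → ∀ j a b : ι, a ≠ b →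
      y.1 a j = 0 → y.1 b j = 0 → False)
    (hrow : ∀ y : SpecialLinearGroup ι F, y ∈ K → ¬ IsMono y.1 → ∀ j a b : ι, a ≠ b →
      y.1 j a = 0 → y.1 j b = 0 → False)
    (hminor : ∀ y : SpecialLinearGroup ι F, y ∈ K → ¬ IsMono y.1 → ∀ a b r s : ι, a ≠ b → r ≠ s →
      y.1 a r ≠ 0 → y.1 a s ≠ 0 → y.1 b r ≠ 0 → y.1 b s ≠ 0 →
      y.1 a r * y.1 b s = y.1 a s * y.1 b r)
    (hnm : ∃ y ∈ K, ¬ IsMono (y : SpecialLinearGroup ι F).1) :
    ∃ y ∈ K, ¬ IsMono (y : SpecialLinearGroup ι F).1 ∧ ∃ (ρ σ : ι → F) (S : Finset ι),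
      (∀ a, ρ a ≠ 0) ∧ (∀ a, σ a ≠ 0) ∧ 3 ≤ S.card ∧
      ∀ a b, y.1 a b = if a = b ∧ a ∈ S then 0 else ρ a * σ b := by
  classical
  obtain ⟨y₀, hy₀, hnm₀⟩ := hnm
  -- the permutation carrying the zeros
  obtain ⟨π, hπ⟩ := exists_perm_zero y₀.1
    (fun j a b hab ha hb => hrow y₀ hy₀ hnm₀ j a b hab ha hb)
    (fun j a b hab ha hb => hcol y₀ hy₀ hnm₀ j a b hab ha hb)
  obtain ⟨d, hd0, hdet⟩ := exists_signs (F := F) π
  set y : SpecialLinearGroup ι F := y₀ * monoSL π d hdet with hy
  have hyK : y ∈ K := K.mul_mem hy₀ (monoSL_mem hK π d hdet)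
  have hyval : ∀ a b, y.1 a b = y₀.1 a (π b) * d b := by
    intro a b
    rw [hy]
    exact mul_monoMat_apply y₀.1 π d a b
  -- the off-diagonal entries of `y` are nonzero
  have hoff : ∀ a b, a ≠ b → y.1 a b ≠ 0 := by
    intro a b hab h
    rw [hyval] at h
    rcases mul_eq_zero.1 h with h | h
    · exact hab (π.injective (hπ a (π b) h)).symm
    · exact hd0 b h
  -- `y` is not monomial
  obtain ⟨a₁, -, a₂, -, a₃, -, h12, h13', h23⟩ :=
    Finset.two_lt_card.1 (by rw [Finset.card_univ]; omega : 2 < (Finset.univ : Finset ι).card)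
  have hynm : ¬ IsMono y.1 := not_isMono_of_col h12 (hoff a₁ a₃ h13') (hoff a₂ a₃ h23)
  -- the minors
  have hQ : ∀ a a' c c', y.1 a c ≠ 0 → y.1 a c' ≠ 0 → y.1 a' c ≠ 0 → y.1 a' c' ≠ 0 →
      y.1 a c * y.1 a' c' = y.1 a c' * y.1 a' c := by
    intro a a' c c' h1 h2 h3 h4
    by_cases haa : a = a'
    · subst haa
      exact mul_comm _ _
    by_cases hcc : c = c'
    · subst hcc
      rfl
    exact hminor y hyK hynm a a' c c' haa hcc h1 h2 h3 h4
  obtain ⟨ρ, σ, hρ, hσ, hrk⟩ := rankone_of_minors (by omega) y.1 hoff hQ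
  set S : Finset ι := Finset.univ.filter fun a => y.1 a a = 0 with hS
  have hform : ∀ a b, y.1 a b = if a = b ∧ a ∈ S then 0 else ρ a * σ b := by
    intro a b
    by_cases h : a = b ∧ a ∈ S
    · rw [if_pos h]
      obtain ⟨rfl, h2⟩ := h
      simpa [hS] using h2
    · rw [if_neg h]
      apply hrk
      by_cases hab : a = b
      · subst hab
        intro h0
        exact h ⟨rfl, by simp [hS, h0]⟩
      · exact hoff a b hab
  refine ⟨y, hyK, hynm, ρ, σ, S, hρ, hσ, ?_, hform⟩
  -- the size of `S`
  have hdet' : y.1.det ≠ 0 := by rw [y.2]; exact one_ne_zero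
  have hcompl : (Finset.univ \ S).card ≤ 1 := by
    rw [Finset.card_le_one]
    intro a ha a' ha'
    simp only [Finset.mem_sdiff, Finset.mem_univ, true_and] at ha ha'
    exact eq_of_not_mem y.1 hdet' ρ σ S hρ hform a a' ha ha'
  have h1 : (Finset.univ \ S).card = Fintype.card ι - S.card := by
    rw [Finset.card_sdiff_of_subset (Finset.subset_univ _), Finset.card_univ]
  omega


end PkF3

end Cfsg.Agent.Lib.Helper6.C2Max
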