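import Cfsg.Agent.Lib.Helper6.C2Max.Basic

set_option autoImplicit false

/-!
# S5634, PK-F4 (core): the final contradiction for the rank one structure

The statement here takes the conclusion of PK-F1 (`col_zero_unique`) as a hypothesis `hcol`.
-/

namespace Cfsg.Agent.Lib.Helper6.C2Max

open Matrix

variable {F : Type*} [Field F] [Fintype F] {ι : Type*} [Fintype ι] [DecidableEq ι]

namespace PkF4

/-- the column `a₁` of `y * diag t * y` for `y = (ρ_a σ_b)` off the diagonal positions of `S` -/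
theorem col_formula (y : Matrix ι ι F) (ρ σ : ι → F) (S : Finset ι)
    (hρ : ∀ a, ρ a ≠ 0) (hσ : ∀ a, σ a ≠ 0)
    (hform : ∀ a b, y a b = if a = b ∧ a ∈ S then 0 else ρ a * σ b)
    (a₁ : ι) (h1 : a₁ ∈ S) (t e : ι → F)
    (ht : ∀ r, r ≠ a₁ → t r = e r / (ρ r * σ r)) (a : ι) :
    (y * Matrix.diagonal t * y) a a₁ =
      ρ a * σ a₁ * ((∑ r ∈ Finset.univ.erase a₁, e r) - if a ∈ S ∧ a ≠ a₁ then e a else 0) := by
  classical
  rw [Matrix.mul_apply]
  have hterm : ∀ r ∈ Finset.univ.erase a₁, (y * Matrix.diagonal t) a r * y r a₁ =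
      ρ a * σ a₁ * (e r - if a = r ∧ a ∈ S then e r else 0) := by
    intro r hr
    have hr1 : r ≠ a₁ := Finset.ne_of_mem_erase hr
    rw [Matrix.mul_diagonal, hform a r, hform r a₁, ht r hr1]
    have h2 : ¬ (r = a₁ ∧ r ∈ S) := fun h => hr1 h.1
    rw [if_neg h2]
    have hρr := hρ r
    have hσr := hσ r
    by_cases h3 : a = r ∧ a ∈ S
    · rw [if_pos h3, if_pos h3]; ring
    · rw [if_neg h3, if_neg h3]
      field_simp
      ring
  have hzero : (y * Matrix.diagonal t) a a₁ * y a₁ a₁ = 0 := by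
    rw [hform a₁ a₁, if_pos ⟨rfl, h1⟩, mul_zero]
  rw [(Finset.sum_erase Finset.univ (f := fun r => (y * Matrix.diagonal t) a r * y r a₁)
    hzero).symm, Finset.sum_congr rfl hterm, ← Finset.mul_sum, Finset.sum_sub_distrib]
  congr 2
  by_cases h4 : a ∈ S ∧ a ≠ a₁
  · rw [if_pos h4]
    rw [Finset.sum_eq_single a]
    · rw [if_pos ⟨rfl, h4.1⟩]
    · intro r _ hra
      rw [if_neg fun h => hra h.1.symm]
    · intro h
      exact absurd (Finset.mem_erase.2 ⟨h4.2, Finset.mem_univ a⟩) h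
  · rw [if_neg h4]
    apply Finset.sum_eq_zero
    intro r hr
    rw [if_neg]
    rintro ⟨rfl, h5⟩
    exact h4 ⟨h5, Finset.ne_of_mem_erase hr⟩

/-- `rankone_absurd` from the conclusion of `col_zero_unique` -/
theorem rankone_absurd_of (h13 : 13 ≤ Fintype.card ι) (hq : 5 ≤ Fintype.card F)
    {K : Subgroup (SpecialLinearGroup ι F)} (hK : Over K)
    (hcol : ∀ y : SpecialLinearGroup ι F, y ∈ K → ¬ IsMono y.1 → ∀ j a b : ι, a ≠ b →
      y.1 a j = 0 → y.1 b j = 0 → False)
    (y : SpecialLinearGroup ι F) (hy : y ∈ K) (ρ σ : ι → F) (S : Finset ι)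
    (hρ : ∀ a, ρ a ≠ 0) (hσ : ∀ a, σ a ≠ 0) (hS : 3 ≤ S.card)
    (hform : ∀ a b, y.1 a b = if a = b ∧ a ∈ S then 0 else ρ a * σ b) : False := by
  classical
  obtain ⟨a₁, h1, a₂, h2, a₃, h3, h12, h13', h23⟩ := Finset.two_lt_card.1 (by omega : 2 < S.card)
  -- two further indices
  have hcard : 1 < ((Finset.univ : Finset ι) \ {a₁, a₂, a₃}).card := by
    have h1 := Finset.le_card_sdiff ({a₁, a₂, a₃} : Finset ι) Finset.univ
    have h2 : ({a₁, a₂, a₃} : Finset ι).card ≤ 3 := Finset.card_le_three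
    rw [Finset.card_univ] at h1
    omega
  obtain ⟨b, hb, c, hc, hbc⟩ := Finset.one_lt_card.1 hcard
  simp only [Finset.mem_sdiff, Finset.mem_univ, true_and, Finset.mem_insert,
    Finset.mem_singleton, not_or] at hb hc
  obtain ⟨hb1, hb2, hb3⟩ := hb
  obtain ⟨hc1, hc2, hc3⟩ := hc
  -- the sum over the remaining indices
  set w : F := ∑ r ∈ Finset.univ.erase a₁, (if r = a₂ ∨ r = a₃ ∨ r = c then (0 : F) else 1)
    with hw
  obtain ⟨x, hx0, hx1, hx2⟩ := exists_avoid3 hq (0 : F) (-w) (-w - 1)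
  set β : F := -(w + x) with hβ
  have hβ0 : β ≠ 0 := by
    rw [hβ, neg_ne_zero]
    intro h
    exact hx1 (by linear_combination h)
  have hβ1 : β - 1 ≠ 0 := by
    rw [hβ]
    intro h
    exact hx2 (by linear_combination -h)
  -- the values `ε_r`
  set e : ι → F := fun r => if r = a₂ ∨ r = a₃ then β else if r = c then x else 1 with he
  have he0 : ∀ r, e r ≠ 0 := by
    intro r
    simp only [he]
    split_ifs
    · exact hβ0
    · exact hx0
    · exact one_ne_zero
  have hesum : ∑ r ∈ Finset.univ.erase a₁, e r = β := by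
    have hsplit : ∀ r, e r = (if r = a₂ ∨ r = a₃ ∨ r = c then (0 : F) else 1) +
        (if r = a₂ then β else 0) + (if r = a₃ then β else 0) + (if r = c then x else 0) := by
      intro r
      simp only [he]
      by_cases r2 : r = a₂
      · subst r2
        simp [h23, Ne.symm hc2]
      by_cases r3 : r = a₃
      · subst r3
        simp [Ne.symm h23, Ne.symm hc3]
      by_cases rc : r = c
      · subst rc
        simp [hc2, hc3]
      simp [r2, r3, rc]
    rw [Finset.sum_congr rfl fun r _ => hsplit r]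
    rw [Finset.sum_add_distrib, Finset.sum_add_distrib, Finset.sum_add_distrib, ← hw]
    rw [Finset.sum_ite_eq', Finset.sum_ite_eq', Finset.sum_ite_eq']
    rw [if_pos (Finset.mem_erase.2 ⟨Ne.symm h12, Finset.mem_univ _⟩),
      if_pos (Finset.mem_erase.2 ⟨Ne.symm h13', Finset.mem_univ _⟩),
      if_pos (Finset.mem_erase.2 ⟨hc1, Finset.mem_univ _⟩)]
    rw [hβ]
    ring
  -- the torus element
  set u : ι → F := fun r => e r / (ρ r * σ r) with hu
  have hu0 : ∀ r, u r ≠ 0 := fun r => div_ne_zero (he0 r) (mul_ne_zero (hρ r) (hσ r))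
  set t : ι → F := fun i => if i = a₁ then (∏ r ∈ Finset.univ.erase a₁, u r)⁻¹ else u i with ht
  have htprod : ∏ i, t i = 1 := prod_normalise u hu0 a₁
  have htr : ∀ r, r ≠ a₁ → t r = e r / (ρ r * σ r) := by
    intro r hr
    simp only [ht, if_neg hr, hu]
  set z : SpecialLinearGroup ι F := y * diagSL t htprod * y with hz
  have hzK : z ∈ K := K.mul_mem (K.mul_mem hy (diagSL_mem hK t htprod)) hy
  have hzval : ∀ a, z.1 a a₁ = ρ a * σ a₁ * (β - if a ∈ S ∧ a ≠ a₁ then e a else 0) := by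
    intro a
    have := col_formula y.1 ρ σ S hρ hσ hform a₁ h1 t e htr a
    rw [hesum] at this
    rw [← this, hz]
    rfl
  have hz1 : z.1 a₁ a₁ ≠ 0 := by
    rw [hzval a₁, if_neg (fun h => h.2 rfl), sub_zero]
    exact mul_ne_zero (mul_ne_zero (hρ _) (hσ _)) hβ0
  have hzb : z.1 b a₁ ≠ 0 := by
    rw [hzval b]
    apply mul_ne_zero (mul_ne_zero (hρ _) (hσ _))
    have heb : e b = 1 := by
      simp only [he]
      rw [if_neg (by tauto), if_neg hbc]
    split_ifs
    · rw [heb]; exact hβ1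
    · rw [sub_zero]; exact hβ0
  have hz2 : z.1 a₂ a₁ = 0 := by
    rw [hzval a₂, if_pos ⟨h2, Ne.symm h12⟩]
    have : e a₂ = β := by simp [he]
    rw [this, sub_self, mul_zero]
  have hz3 : z.1 a₃ a₁ = 0 := by
    rw [hzval a₃, if_pos ⟨h3, Ne.symm h13'⟩]
    have : e a₃ = β := by simp [he]
    rw [this, sub_self, mul_zero]
  have hznm : ¬ IsMono z.1 := not_isMono_of_col (Ne.symm hb1) hz1 hzb
  exact hcol z hzK hznm a₁ a₂ a₃ h23 hz2 hz3


end PkF4

end Cfsg.Agent.Lib.Helper6.C2Max
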