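import Cfsg.Agent.Lib.Helper6.C2Max.Basic
import Cfsg.Agent.Lib.Helper5.C2Max_T1
import Cfsg.Agent.Lib.Helper9.SLRoot1

set_option autoImplicit false

/-!
# S5634, Theorem G (helper9's theorem, second write-up by helper6), part 1

Overgroups `L ≤ GL_κ(F)` of the full monomial group without elementary transvections: the pairs
`(g e_o, e_oᵀ g⁻¹)`, `g ∈ L`, their homologies, and the uniqueness of the functional.
-/

namespace Cfsg.Agent.Lib.Helper6.C2Max

open Matrix Cfsg.Agent.H9SLRoot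

variable {F : Type*} [Field F] [Fintype F] {κ : Type*} [Fintype κ] [DecidableEq κ]

namespace PkG6

/-- the column `o` of `g` -/
def colv (g : GL κ F) (o : κ) : κ → F := fun r => (g : Matrix κ κ F) r o

/-- the row `o` of `g⁻¹` -/
def rowv (g : GL κ F) (o : κ) : κ → F := fun c => ((g⁻¹ : GL κ F) : Matrix κ κ F) o c

omit [Fintype F] in
theorem colv_eq (g : GL κ F) (o : κ) : colv g o = (g : Matrix κ κ F) *ᵥ Pi.single o 1 := by
  ext r
  rw [Matrix.mulVec_single_one]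
  rfl

omit [Fintype F] in
theorem rowv_eq (g : GL κ F) (o : κ) :
    rowv g o = Pi.single o 1 ᵥ* ((g⁻¹ : GL κ F) : Matrix κ κ F) := by
  ext c
  rw [Matrix.single_one_vecMul]
  rfl

omit [Fintype F] in
theorem coe_inv_mul (g : GL κ F) : ((g⁻¹ : GL κ F) : Matrix κ κ F) * (g : Matrix κ κ F) = 1 := by
  rw [← Matrix.GeneralLinearGroup.coe_mul, inv_mul_cancel]
  rfl

omit [Fintype F] in
theorem coe_mul_inv (g : GL κ F) : (g : Matrix κ κ F) * ((g⁻¹ : GL κ F) : Matrix κ κ F) = 1 := by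
  rw [← Matrix.GeneralLinearGroup.coe_mul, mul_inv_cancel]
  rfl

omit [Fintype F] in
theorem rowv_dot_colv (g : GL κ F) (o : κ) : rowv g o ⬝ᵥ colv g o = 1 := by
  have h := congrFun (congrFun (coe_inv_mul g) o) o
  rw [Matrix.mul_apply, Matrix.one_apply_eq] at h
  exact h

omit [Fintype F] in
theorem det_ne_zero (g : GL κ F) : (g : Matrix κ κ F).det ≠ 0 :=
  (Matrix.isUnits_det_units g).ne_zero

/-- the set of pairs `(g e_o, e_oᵀ g⁻¹)` -/
def Pset (L : Subgroup (GL κ F)) : Set ((κ → F) × (κ → F)) :=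
  {p | ∃ g ∈ L, ∃ o : κ, p.1 = colv g o ∧ p.2 = rowv g o}

omit [Fintype F] in
theorem pset_one (L : Subgroup (GL κ F)) (o : κ) :
    ((Pi.single o 1 : κ → F), (Pi.single o 1 : κ → F)) ∈ Pset L := by
  refine ⟨1, L.one_mem, o, ?_, ?_⟩
  · ext r
    show (Pi.single o 1 : κ → F) r = (1 : Matrix κ κ F) r o
    rw [Matrix.one_apply, Pi.single_apply]
  · ext c
    show (Pi.single o 1 : κ → F) c = ((1⁻¹ : GL κ F) : Matrix κ κ F) o c
    rw [inv_one]
    show (Pi.single o 1 : κ → F) c = (1 : Matrix κ κ F) o c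
    rw [Matrix.one_apply, Pi.single_apply]
    by_cases h : c = o
    · rw [if_pos h, if_pos h.symm]
    · rw [if_neg h, if_neg (Ne.symm h)]

omit [Fintype F] in
theorem pset_dot {L : Subgroup (GL κ F)} {v φ : κ → F} (h : (v, φ) ∈ Pset L) : φ ⬝ᵥ v = 1 := by
  obtain ⟨g, -, o, h1, h2⟩ := h
  simp only at h1 h2
  rw [h1, h2]
  exact rowv_dot_colv g o

omit [Fintype F] in
/-- `L` acts on the pairs -/
theorem pset_smul {L : Subgroup (GL κ F)} {v φ : κ → F} (h : (v, φ) ∈ Pset L) (l : GL κ F)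
    (hl : l ∈ L) :
    ((l : Matrix κ κ F) *ᵥ v, φ ᵥ* ((l⁻¹ : GL κ F) : Matrix κ κ F)) ∈ Pset L := by
  obtain ⟨g, hg, o, h1, h2⟩ := h
  simp only at h1 h2
  refine ⟨l * g, L.mul_mem hl hg, o, ?_, ?_⟩
  · ext r
    show ((l : Matrix κ κ F) *ᵥ v) r = ((l * g : GL κ F) : Matrix κ κ F) r o
    rw [Matrix.GeneralLinearGroup.coe_mul, Matrix.mul_apply, h1]
    rfl
  · ext c
    show (φ ᵥ* ((l⁻¹ : GL κ F) : Matrix κ κ F)) c = (((l * g)⁻¹ : GL κ F) : Matrix κ κ F) o c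
    rw [_root_.mul_inv_rev, Matrix.GeneralLinearGroup.coe_mul, Matrix.mul_apply, h2]
    rfl

/-- the diagonal matrix with `ε` at `o` -/
def dGL (o : κ) (ε : F) (hε : ε ≠ 0) : GL κ F :=
  PkT1.diagGL (Function.update (fun _ => (1 : F)) o ε) (by
    intro k
    by_cases hk : k = o
    · rw [hk, Function.update_self]
      exact hε
    · rw [Function.update_of_ne hk]
      exact one_ne_zero)

omit [Fintype F] in
theorem dGL_coe (o : κ) (ε : F) (hε : ε ≠ 0) :
    ((dGL o ε hε : GL κ F) : Matrix κ κ F) =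
      Matrix.diagonal (Function.update (fun _ => (1 : F)) o ε) := rfl

omit [Fintype F] in
theorem dGL_mem {L : Subgroup (GL κ F)}
    (hL : ∀ g : GL κ F, IsMono (g : Matrix κ κ F) → g ∈ L) (o : κ) (ε : F) (hε : ε ≠ 0) :
    dGL o ε hε ∈ L := by
  apply hL
  rw [dGL_coe]
  exact isMono_diagonal _

omit [Fintype F] in
theorem dGL_inv (o : κ) (ε : F) (hε : ε ≠ 0) :
    (dGL o ε hε)⁻¹ = dGL o ε⁻¹ (inv_ne_zero hε) := by
  rw [inv_eq_iff_mul_eq_one]
  apply Units.ext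
  rw [Matrix.GeneralLinearGroup.coe_mul, dGL_coe, dGL_coe, Matrix.diagonal_mul_diagonal]
  show _ = (1 : Matrix κ κ F)
  rw [← Matrix.diagonal_one]
  congr 1
  funext k
  by_cases hk : k = o
  · rw [hk, Function.update_self, Function.update_self, mul_inv_cancel₀ hε]
  · rw [Function.update_of_ne hk, Function.update_of_ne hk, mul_one]

omit [Fintype F] in
theorem dGL_mulVec (o : κ) (ε : F) (hε : ε ≠ 0) (u : κ → F) :
    ((dGL o ε hε : GL κ F) : Matrix κ κ F) *ᵥ u = u + ((ε - 1) * u o) • Pi.single o 1 := by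
  ext k
  rw [dGL_coe, Matrix.mulVec_diagonal, Pi.add_apply, Pi.smul_apply, smul_eq_mul,
    Pi.single_apply]
  by_cases hk : k = o
  · rw [hk, Function.update_self, if_pos rfl]
    ring
  · rw [Function.update_of_ne hk, if_neg hk]
    ring

/-- the homology `g d_o(ε) g⁻¹` -/
def homGL (g : GL κ F) (o : κ) (ε : F) (hε : ε ≠ 0) : GL κ F := g * dGL o ε hε * g⁻¹

omit [Fintype F] in
theorem homGL_mem {L : Subgroup (GL κ F)}
    (hL : ∀ g : GL κ F, IsMono (g : Matrix κ κ F) → g ∈ L) {g : GL κ F} (hg : g ∈ L) (o : κ)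
    (ε : F) (hε : ε ≠ 0) : homGL g o ε hε ∈ L :=
  L.mul_mem (L.mul_mem hg (dGL_mem hL o ε hε)) (L.inv_mem hg)

omit [Fintype F] in
theorem homGL_inv (g : GL κ F) (o : κ) (ε : F) (hε : ε ≠ 0) :
    (homGL g o ε hε)⁻¹ = homGL g o ε⁻¹ (inv_ne_zero hε) := by
  unfold homGL
  rw [_root_.mul_inv_rev, _root_.mul_inv_rev, inv_inv, dGL_inv, mul_assoc]

omit [Fintype F] in
theorem homGL_coe (g : GL κ F) (o : κ) (ε : F) (hε : ε ≠ 0) :
    ((homGL g o ε hε : GL κ F) : Matrix κ κ F) = tmat (colv g o) (rowv g o) (ε - 1) := by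
  apply ext_mulVec
  intro u
  unfold homGL
  rw [Matrix.GeneralLinearGroup.coe_mul, Matrix.GeneralLinearGroup.coe_mul,
    ← Matrix.mulVec_mulVec, ← Matrix.mulVec_mulVec, dGL_mulVec, Matrix.mulVec_add,
    Matrix.mulVec_mulVec, coe_mul_inv, Matrix.one_mulVec, Matrix.mulVec_smul, tmat_mulVec,
    ← colv_eq]
  congr 2

omit [Fintype F] in
/-- the action of a homology on a vector -/
theorem homGL_mulVec (g : GL κ F) (o : κ) (ε : F) (hε : ε ≠ 0) (u : κ → F) :
    ((homGL g o ε hε : GL κ F) : Matrix κ κ F) *ᵥ u =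
      u + ((ε - 1) * (rowv g o ⬝ᵥ u)) • colv g o := by
  rw [homGL_coe, tmat_mulVec]

omit [Fintype F] in
/-- the action of the inverse of a homology on a functional -/
theorem vecMul_homGL_inv (g : GL κ F) (o : κ) (ε : F) (hε : ε ≠ 0) (ψ : κ → F) :
    ψ ᵥ* (((homGL g o ε hε)⁻¹ : GL κ F) : Matrix κ κ F) =
      ψ + ((ε⁻¹ - 1) * (ψ ⬝ᵥ colv g o)) • rowv g o := by
  rw [homGL_inv, homGL_coe, tmat_vecMul]

end PkG6

end Cfsg.Agent.Lib.Helper6.C2Max
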