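import Cfsg.Agent.Lib.Helper6.C2Max.G1

set_option autoImplicit false

/-!
# S5634, Theorem G, part 2: the functional is determined by the vector, and its shape
-/

namespace Cfsg.Agent.Lib.Helper6.C2Max

open Matrix Cfsg.Agent.H9SLRoot

variable {F : Type*} [Field F] [Fintype F] {κ : Type*} [Fintype κ] [DecidableEq κ]

namespace PkG6

/-- step (a): an element of `L` mapping `e_o'` into `⟨e_o⟩` maps the complement of `e_o'` into the
complement of `e_o` -/
theorem row_of_col (hq : 3 ≤ Fintype.card F) {L : Subgroup (GL κ F)}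
    (hL : ∀ g : GL κ F, IsMono (g : Matrix κ κ F) → g ∈ L) (hT : ¬ HasTvGL L)
    (h : GL κ F) (hh : h ∈ L) (o o' : κ) (hcol : ∀ r, r ≠ o → (h : Matrix κ κ F) r o' = 0) :
    ∀ c, c ≠ o' → (h : Matrix κ κ F) o c = 0 := by
  classical
  by_contra hcon
  push Not at hcon
  obtain ⟨c₀, hc₀, hc₀'⟩ := hcon
  apply hT
  obtain ⟨H, hH⟩ : ∃ H : Matrix κ κ F, H = (h : Matrix κ κ F) := ⟨_, rfl⟩
  rw [← hH] at hcol hc₀'
  have ha : H o o' ≠ 0 := by
    intro h0
    apply det_ne_zero h
    apply Matrix.det_eq_zero_of_column_eq_zero o'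
    intro r
    rw [← hH]
    by_cases hr : r = o
    · rw [hr, h0]
    · exact hcol r hr
  obtain ⟨ε, hε0, hε1⟩ := PkT1.exists_scalar (F := F) hq
  set x : GL κ F := h⁻¹ * (dGL o ε hε0 * h * (dGL o' ε hε0)⁻¹) with hx
  have hxL : x ∈ L :=
    L.mul_mem (L.inv_mem hh) (L.mul_mem (L.mul_mem (dGL_mem hL o ε hε0) hh)
      (L.inv_mem (dGL_mem hL o' ε hε0)))
  set X : Matrix κ κ F := 1 + Matrix.of (fun r c =>
    if r = o' ∧ c ≠ o' then (H o o')⁻¹ * (ε - 1) * H o c else 0) with hXdef
  have hhx : (h : Matrix κ κ F) * (x : Matrix κ κ F) = (h : Matrix κ κ F) * X := by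
    have h1 : h * x = dGL o ε hε0 * h * (dGL o' ε hε0)⁻¹ := by
      rw [hx]
      group
    rw [← Matrix.GeneralLinearGroup.coe_mul, h1, dGL_inv, Matrix.GeneralLinearGroup.coe_mul,
      Matrix.GeneralLinearGroup.coe_mul, dGL_coe, dGL_coe, ← hH]
    ext r c
    rw [Matrix.mul_diagonal, Matrix.diagonal_mul, hXdef, Matrix.mul_add, Matrix.mul_one,
      Matrix.add_apply, Matrix.mul_apply, Finset.sum_eq_single o']
    · simp only [Matrix.of_apply, true_and]
      by_cases hr : r = o
      · by_cases hc : c = o'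
        · subst hr
          subst hc
          rw [Function.update_self, Function.update_self, if_neg (fun hh => hh rfl), mul_zero,
            add_zero, mul_comm ε, mul_assoc, mul_inv_cancel₀ hε0, mul_one]
        · subst hr
          rw [Function.update_self, Function.update_of_ne hc, if_pos hc]
          field_simp
          ring
      · by_cases hc : c = o'
        · subst hc
          rw [Function.update_of_ne hr, Function.update_self, hcol r hr]
          simp
        · rw [Function.update_of_ne hr, Function.update_of_ne hc, hcol r hr]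
          simp
    · intro k _ hk
      simp only [Matrix.of_apply]
      rw [if_neg (fun hh => hk hh.1), mul_zero]
    · intro hh
      exact absurd (Finset.mem_univ _) hh
  have hxX : (x : Matrix κ κ F) = X := by
    have := congrArg (fun M => ((h⁻¹ : GL κ F) : Matrix κ κ F) * M) hhx
    simp only [← Matrix.mul_assoc, coe_inv_mul, Matrix.one_mul] at this
    exact this
  have hXapp : ∀ r c, X r c = (if r = c then 1 else 0) +
      if r = o' ∧ c ≠ o' then (H o o')⁻¹ * (ε - 1) * H o c else 0 := by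
    intro r c
    rw [hXdef, Matrix.add_apply, Matrix.one_apply]
    rfl
  refine hasTvGL_of_rect hq hL {o'} (Finset.univ.erase o') ?_ x hxL ?_ ?_ ?_
  · rw [Finset.disjoint_left]
    intro k hk hk'
    rw [Finset.mem_singleton] at hk
    exact (Finset.ne_of_mem_erase hk') hk
  · intro h1
    have h2 : X o' c₀ = (1 : Matrix κ κ F) o' c₀ := by
      rw [← hxX, h1]
      rfl
    rw [hXapp, Matrix.one_apply, if_neg (Ne.symm hc₀), zero_add, if_pos ⟨rfl, hc₀⟩] at h2
    have h3 : ε - 1 ≠ 0 := sub_ne_zero.2 hε1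
    exact (mul_ne_zero (mul_ne_zero (inv_ne_zero ha) h3) hc₀') h2
  · intro r
    rw [hxX, hXapp, if_pos rfl, if_neg (fun hh => hh.2 hh.1), add_zero]
  · intro r c hrc hne
    rw [hxX, hXapp, if_neg hrc, zero_add] at hne
    by_cases h1 : r = o' ∧ c ≠ o'
    · exact ⟨Finset.mem_singleton.2 h1.1, Finset.mem_erase.2 ⟨h1.2, Finset.mem_univ _⟩⟩
    · rw [if_neg h1] at hne
      exact absurd rfl hne

/-- the functional of a pair is determined by its vector -/
theorem pset_unique (hq : 3 ≤ Fintype.card F) {L : Subgroup (GL κ F)}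
    (hL : ∀ g : GL κ F, IsMono (g : Matrix κ κ F) → g ∈ L) (hT : ¬ HasTvGL L)
    {v φ φ' : κ → F} (h1 : (v, φ) ∈ Pset L) (h2 : (v, φ') ∈ Pset L) : φ = φ' := by
  classical
  obtain ⟨g, hg, o, hv, hφ⟩ := h1
  obtain ⟨g', hg', o', hv', hφ'⟩ := h2
  simp only at hv hφ hv' hφ'
  set h : GL κ F := g⁻¹ * g' with hh
  have hhL : h ∈ L := L.mul_mem (L.inv_mem hg) hg'
  -- the column `o'` of `h` is `e_o`
  have hcol : ∀ r, (h : Matrix κ κ F) r o' = if r = o then 1 else 0 := by
    intro r
    have e1 : (h : Matrix κ κ F) r o' = (((g⁻¹ : GL κ F) : Matrix κ κ F) *ᵥ colv g' o') r := by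
      rw [hh, Matrix.GeneralLinearGroup.coe_mul, Matrix.mul_apply]
      rfl
    rw [e1, ← hv', hv, colv_eq, Matrix.mulVec_mulVec, coe_inv_mul, Matrix.one_mulVec,
      Pi.single_apply]
  have hrow := row_of_col hq hL hT h hhL o o' (fun r hr => by rw [hcol r, if_neg hr])
  -- the row `o` of `h` is `e_o'`
  have hrow' : (Pi.single o 1 : κ → F) ᵥ* (h : Matrix κ κ F) = Pi.single o' 1 := by
    ext c
    rw [Matrix.single_one_vecMul]
    show (h : Matrix κ κ F) o c = _
    by_cases hc : c = o'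
    · rw [hc, hcol o, if_pos rfl, Pi.single_eq_same]
    · rw [hrow c hc, Pi.single_eq_of_ne hc]
  rw [hφ, hφ', rowv_eq, rowv_eq, ← hrow', Matrix.vecMul_vecMul, hh,
    ← Matrix.GeneralLinearGroup.coe_mul]
  congr 2
  group

omit [Fintype F] in
/-- a monomial matrix with nonzero entries as an element of `GL` -/
theorem det_monoMat_ne_zero (π : Equiv.Perm κ) (d : κ → F) (hd : ∀ k, d k ≠ 0) :
    (monoMat π d).det ≠ 0 := by
  rw [det_monoMat]
  apply mul_ne_zero
  · rcases Int.units_eq_one_or (Equiv.Perm.sign π) with h | h <;> rw [h] <;> simp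
  · exact Finset.prod_ne_zero_iff.2 fun k _ => hd k

/-- a monomial matrix with nonzero entries as an element of `GL` -/
noncomputable def monoGL (π : Equiv.Perm κ) (d : κ → F) (hd : ∀ k, d k ≠ 0) : GL κ F :=
  Matrix.GeneralLinearGroup.mkOfDetNeZero (monoMat π d) (det_monoMat_ne_zero π d hd)

omit [Fintype F] in
theorem monoGL_coe (π : Equiv.Perm κ) (d : κ → F) (hd : ∀ k, d k ≠ 0) :
    ((monoGL π d hd : GL κ F) : Matrix κ κ F) = monoMat π d := rfl

omit [Fintype F] in
theorem monoGL_mem {L : Subgroup (GL κ F)}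
    (hL : ∀ g : GL κ F, IsMono (g : Matrix κ κ F) → g ∈ L) (π : Equiv.Perm κ) (d : κ → F)
    (hd : ∀ k, d k ≠ 0) : monoGL π d hd ∈ L := by
  apply hL
  rw [monoGL_coe]
  exact isMono_monoMat π d

omit [Fintype F] in
theorem monoMat_mulVec (π : Equiv.Perm κ) (d : κ → F) (u : κ → F) (r : κ) :
    (monoMat π d *ᵥ u) r = d (π.symm r) * u (π.symm r) := by
  classical
  show ∑ c, monoMat π d r c * u c = _
  rw [Finset.sum_eq_single (π.symm r)]
  · rw [monoMat_apply, if_pos (by simp)]
  · intro b _ hb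
    rw [monoMat_apply, if_neg, zero_mul]
    intro h
    exact hb (by rw [h]; simp)
  · intro h
    exact absurd (Finset.mem_univ _) h

omit [Fintype F] in
theorem vecMul_monoMat (π : Equiv.Perm κ) (d : κ → F) (ψ : κ → F) (c : κ) :
    (ψ ᵥ* monoMat π d) c = ψ (π c) * d c := by
  classical
  show ∑ r, ψ r * monoMat π d r c = _
  rw [Finset.sum_eq_single (π c)]
  · rw [monoMat_apply, if_pos rfl]
  · intro b _ hb
    rw [monoMat_apply, if_neg hb, mul_zero]
  · intro h
    exact absurd (Finset.mem_univ _) h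

/-- an element of `L` fixing the vector fixes the functional -/
theorem pset_fixed (hq : 3 ≤ Fintype.card F) {L : Subgroup (GL κ F)}
    (hL : ∀ g : GL κ F, IsMono (g : Matrix κ κ F) → g ∈ L) (hT : ¬ HasTvGL L)
    {v φ : κ → F} (h : (v, φ) ∈ Pset L) (l : GL κ F) (hl : l ∈ L)
    (hlv : (l : Matrix κ κ F) *ᵥ v = v) : φ ᵥ* (l : Matrix κ κ F) = φ := by
  have h1 := pset_smul h l hl
  rw [hlv] at h1
  have h2 := pset_unique hq hL hT h1 h
  have h3 := congrArg (fun ψ => ψ ᵥ* (l : Matrix κ κ F)) h2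
  simp only [Matrix.vecMul_vecMul, coe_inv_mul, Matrix.vecMul_one] at h3
  exact h3.symm

/-- (c1) the support of the functional lies in the support of the vector -/
theorem pset_supp (hq : 3 ≤ Fintype.card F) {L : Subgroup (GL κ F)}
    (hL : ∀ g : GL κ F, IsMono (g : Matrix κ κ F) → g ∈ L) (hT : ¬ HasTvGL L)
    {v φ : κ → F} (h : (v, φ) ∈ Pset L) (j : κ) (hj : v j = 0) : φ j = 0 := by
  obtain ⟨η, hη0, hη1⟩ := PkT1.exists_scalar (F := F) hq
  have h1 := pset_fixed hq hL hT h (dGL j η hη0) (dGL_mem hL j η hη0) (by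
    rw [dGL_mulVec, hj, mul_zero, zero_smul, add_zero])
  have h2 := congrFun h1 j
  rw [dGL_coe, Matrix.vecMul_diagonal, Function.update_self] at h2
  have h3 : φ j * (η - 1) = 0 := by linear_combination h2
  rcases mul_eq_zero.1 h3 with h4 | h4
  · exact h4
  · exact absurd (sub_eq_zero.1 h4) hη1

/-- (c2) `v_i φ_i` is constant on the support of `v` -/
theorem pset_const (hq : 3 ≤ Fintype.card F) {L : Subgroup (GL κ F)}
    (hL : ∀ g : GL κ F, IsMono (g : Matrix κ κ F) → g ∈ L) (hT : ¬ HasTvGL L)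
    {v φ : κ → F} (h : (v, φ) ∈ Pset L) (i i' : κ) (hi : v i ≠ 0) (hi' : v i' ≠ 0) :
    v i * φ i = v i' * φ i' := by
  classical
  by_cases hii : i = i'
  · rw [hii]
  set d : κ → F := fun k => if k = i then v i' / v i else if k = i' then v i / v i' else 1
    with hd
  have hd0 : ∀ k, d k ≠ 0 := by
    intro k
    simp only [hd]
    split_ifs
    · exact div_ne_zero hi' hi
    · exact div_ne_zero hi hi'
    · exact one_ne_zero
  have hdi : d i = v i' / v i := by simp [hd]
  have hdi' : d i' = v i / v i' := by simp [hd, Ne.symm hii]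
  have hdo : ∀ k, k ≠ i → k ≠ i' → d k = 1 := by
    intro k h1 h2
    simp [hd, h1, h2]
  have hfix : ((monoGL (Equiv.swap i i') d hd0 : GL κ F) : Matrix κ κ F) *ᵥ v = v := by
    ext r
    rw [monoGL_coe, monoMat_mulVec, Equiv.symm_swap]
    by_cases h1 : r = i
    · rw [h1, Equiv.swap_apply_left, hdi']
      field_simp
    · by_cases h2 : r = i'
      · rw [h2, Equiv.swap_apply_right, hdi]
        field_simp
      · rw [Equiv.swap_apply_of_ne_of_ne h1 h2, hdo r h1 h2, one_mul]
  have h1 := pset_fixed hq hL hT h _ (monoGL_mem hL (Equiv.swap i i') d hd0) hfix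
  have h2 := congrFun h1 i
  rw [monoGL_coe, vecMul_monoMat, Equiv.swap_apply_left, hdi] at h2
  rw [← h2]
  field_simp

open scoped Classical in
/-- the support of a vector -/
noncomputable def vsupp (v : κ → F) : Finset κ := Finset.univ.filter fun k => v k ≠ 0

omit [Fintype F] in
theorem mem_vsupp (v : κ → F) (k : κ) : k ∈ vsupp v ↔ v k ≠ 0 := by
  simp [vsupp]

/-- (c3) `|supp v| · v_o φ_o = 1` -/
theorem pset_card (hq : 3 ≤ Fintype.card F) {L : Subgroup (GL κ F)}
    (hL : ∀ g : GL κ F, IsMono (g : Matrix κ κ F) → g ∈ L) (hT : ¬ HasTvGL L)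
    {v φ : κ → F} (h : (v, φ) ∈ Pset L) (o : κ) (ho : v o ≠ 0) :
    ((vsupp v).card : F) * (v o * φ o) = 1 := by
  classical
  have h1 := pset_dot h
  have h2 : φ ⬝ᵥ v = ∑ k ∈ vsupp v, v o * φ o := by
    show ∑ k, φ k * v k = _
    rw [vsupp, Finset.sum_filter]
    apply Finset.sum_congr rfl
    intro k _
    by_cases hk : v k = 0
    · rw [if_neg (not_not.2 hk), hk, mul_zero]
    · rw [if_pos hk, pset_const hq hL hT h o k ho hk, mul_comm]
  rw [h2, Finset.sum_const, nsmul_eq_mul] at h1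
  exact h1

end PkG6

end Cfsg.Agent.Lib.Helper6.C2Max
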