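import Cfsg.Agent.Lib.Helper6.C2Max.G2

set_option autoImplicit false

/-!
# S5634, Theorem G, part 3: the quadratic, the case `q = 5`, and the theorem
-/

namespace Cfsg.Agent.Lib.Helper6.C2Max

open Matrix Cfsg.Agent.H9SLRoot

variable {F : Type*} [Field F] [Fintype F] {κ : Type*} [Fintype κ] [DecidableEq κ]

namespace PkG6

omit [Fintype F] in
/-- (d) a non-monomial element has a column with two nonzero entries -/
theorem exists_two {L : Subgroup (GL κ F)} (h : ¬ ∀ g ∈ L, IsMono (g : Matrix κ κ F)) :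
    ∃ v φ : κ → F, (v, φ) ∈ Pset L ∧ 2 ≤ (vsupp v).card := by
  classical
  by_contra hcon
  push Not at hcon
  apply h
  intro g hg
  have hcolumn : ∀ c r r', (g : Matrix κ κ F) r c ≠ 0 → (g : Matrix κ κ F) r' c ≠ 0 → r = r' := by
    intro c r r' hr hr'
    have h1 := hcon (colv g c) (rowv g c) ⟨g, hg, c, rfl, rfl⟩
    by_contra hne
    have h2 : 1 < (vsupp (colv g c)).card :=
      Finset.one_lt_card.2 ⟨r, (mem_vsupp _ _).2 hr, r', (mem_vsupp _ _).2 hr', hne⟩
    omega
  have hex : ∀ c, ∃ r, (g : Matrix κ κ F) r c ≠ 0 := by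
    intro c
    by_contra h0
    push Not at h0
    exact det_ne_zero g (Matrix.det_eq_zero_of_column_eq_zero c h0)
  choose τ hτ using hex
  have hτu : ∀ r c, (g : Matrix κ κ F) r c ≠ 0 → r = τ c := fun r c hr =>
    hcolumn c r (τ c) hr (hτ c)
  have hinv : ∀ c c', ((g⁻¹ : GL κ F) : Matrix κ κ F) c (τ c') * (g : Matrix κ κ F) (τ c') c' =
      (1 : Matrix κ κ F) c c' := by
    intro c c'
    rw [← coe_inv_mul g, Matrix.mul_apply, Finset.sum_eq_single (τ c')]
    · intro k _ hk
      have : (g : Matrix κ κ F) k c' = 0 := by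
        by_contra h0
        exact hk (hτu k c' h0)
      rw [this, mul_zero]
    · intro h0
      exact absurd (Finset.mem_univ _) h0
  have hinj : Function.Injective τ := by
    intro c c' hcc
    by_contra hne
    have h1 := hinv c c
    have h2 := hinv c c'
    rw [Matrix.one_apply_eq] at h1
    rw [Matrix.one_apply_ne hne, ← hcc] at h2
    rcases mul_eq_zero.1 h2 with h3 | h3
    · rw [h3, zero_mul] at h1
      exact zero_ne_one h1
    · rw [hcc] at h3
      exact hτ c' h3
  refine ⟨Equiv.ofBijective τ (Finite.injective_iff_bijective.1 hinj), fun r c hr => ?_⟩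
  rw [Equiv.ofBijective_apply]
  exact hτu r c hr

/-- (e1) the quadratic equation -/
theorem quad (hq : 3 ≤ Fintype.card F) {L : Subgroup (GL κ F)}
    (hL : ∀ g : GL κ F, IsMono (g : Matrix κ κ F) → g ∈ L) (hT : ¬ HasTvGL L)
    {w φ : κ → F} (h : (w, φ) ∈ Pset L) (hs : 2 ≤ (vsupp w).card) (ε : F) (hε0 : ε ≠ 0)
    (hε1 : ε ≠ 1) (hεs : ε ≠ 1 - ((vsupp w).card : F)) :
    ε ^ 2 + (((vsupp w).card : F) - 2) * ε + 1 = 0 := by
  classical
  obtain ⟨o, ho, i, hi, hoi⟩ := Finset.one_lt_card.1 (by omega : 1 < (vsupp w).card)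
  rw [mem_vsupp] at ho hi
  obtain ⟨g, hg, o₀, hw, hφ⟩ := id h
  simp only at hw hφ
  set s : F := ((vsupp w).card : F) with hsdef
  have hk : s * (w o * φ o) = 1 := pset_card hq hL hT h o ho
  have hki : w i * φ i = w o * φ o := pset_const hq hL hT h i o hi ho
  have hφo : φ o ≠ 0 := by
    intro h0
    rw [h0, mul_zero, mul_zero] at hk
    exact zero_ne_one hk
  have hs0 : s ≠ 0 := by
    intro h0
    rw [h0, zero_mul] at hk
    exact zero_ne_one hk
  have hε1' : ε - 1 ≠ 0 := sub_ne_zero.2 hε1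
  -- the new pair
  have hp := pset_smul (pset_one L o) (homGL g o₀ ε hε0) (homGL_mem hL hg o₀ ε hε0)
  rw [homGL_mulVec, vecMul_homGL_inv, ← hw, ← hφ, dotProduct_single_one,
    single_one_dotProduct] at hp
  set v' : κ → F := Pi.single o 1 + ((ε - 1) * φ o) • w with hv'
  set φ' : κ → F := Pi.single o 1 + ((ε⁻¹ - 1) * w o) • φ with hφ'
  have hv'o : v' o = 1 + (ε - 1) * φ o * w o := by
    simp [hv']
  have hv'r : ∀ r, r ≠ o → v' r = (ε - 1) * φ o * w r := by
    intro r hr
    simp [hv', Pi.single_eq_of_ne hr]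
  have hφ'i : φ' i = (ε⁻¹ - 1) * w o * φ i := by
    simp [hφ', Pi.single_eq_of_ne (Ne.symm hoi)]
  have hv'o0 : v' o ≠ 0 := by
    rw [hv'o]
    intro h0
    apply hεs
    have : s * (1 + (ε - 1) * φ o * w o) = 0 := by rw [h0, mul_zero]
    linear_combination this - (ε - 1) * hk
  have hsupp : vsupp v' = vsupp w := by
    ext r
    rw [mem_vsupp, mem_vsupp]
    by_cases hr : r = o
    · rw [hr]
      exact ⟨fun _ => ho, fun _ => hv'o0⟩
    · rw [hv'r r hr]
      constructor
      · intro h1 h2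
        apply h1
        rw [h2, mul_zero]
      · intro h1
        exact mul_ne_zero (mul_ne_zero hε1' hφo) h1
  have hi' : v' i ≠ 0 := by
    rw [← mem_vsupp, hsupp, mem_vsupp]
    exact hi
  have hk' := pset_card hq hL hT hp i hi'
  rw [hsupp, ← hsdef, hv'r i (Ne.symm hoi), hφ'i] at hk'
  -- now pure algebra
  have e1 : s * ((ε - 1) * (ε⁻¹ - 1) * (w o * φ o) * (w i * φ i)) = 1 := by
    linear_combination hk'
  rw [hki] at e1
  have e2 : (ε - 1) * (ε⁻¹ - 1) = s := by
    have : s * (w o * φ o) = 1 := hk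
    have e3 : (ε - 1) * (ε⁻¹ - 1) * (s * (w o * φ o)) ^ 2 = s := by
      linear_combination s * e1
    rw [this] at e3
    linear_combination e3
  have e4 : (ε - 1) * (1 - ε) = s * ε := by
    have : (ε - 1) * (ε⁻¹ - 1) * ε = s * ε := by rw [e2]
    rw [← this]
    field_simp
  linear_combination -e4

/-- (e2) only `q = 5`, `s ≡ 2` survives -/
theorem five (hq : 5 ≤ Fintype.card F) {L : Subgroup (GL κ F)}
    (hL : ∀ g : GL κ F, IsMono (g : Matrix κ κ F) → g ∈ L) (hT : ¬ HasTvGL L)
    {w φ : κ → F} (h : (w, φ) ∈ Pset L) (hs : 2 ≤ (vsupp w).card) :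
    Fintype.card F = 5 ∧ ((vsupp w).card : F) = 2 := by
  classical
  set s : F := ((vsupp w).card : F) with hsdef
  set b : F := s - 2 with hb
  set B : Finset F := {0, 1, 1 - s} with hB
  set A : Finset F := Finset.univ \ B with hA
  have hquad : ∀ ε ∈ A, ε ^ 2 + b * ε + 1 = 0 := by
    intro ε hε
    simp only [hA, hB, Finset.mem_sdiff, Finset.mem_univ, true_and, Finset.mem_insert,
      Finset.mem_singleton, not_or] at hε
    exact quad (by omega) hL hT h hs ε hε.1 hε.2.1 hε.2.2
  have hsum : ∀ α ∈ A, ∀ β ∈ A, α ≠ β → α + β = -b := by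
    intro α hα β hβ hne
    have h1 := hquad α hα
    have h2 := hquad β hβ
    have h3 : (α - β) * (α + β + b) = 0 := by linear_combination h1 - h2
    rcases mul_eq_zero.1 h3 with h4 | h4
    · exact absurd (sub_eq_zero.1 h4) hne
    · linear_combination h4
  have hA2 : A.card ≤ 2 := by
    by_contra hlt
    obtain ⟨α, hα, β, hβ, γ, hγ, h1, h2, h3⟩ := Finset.two_lt_card.1 (by omega : 2 < A.card)
    apply h3
    have e1 := hsum α hα β hβ h1
    have e2 := hsum α hα γ hγ h2
    linear_combination e1 - e2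
  have hB3 : B.card ≤ 3 := Finset.card_le_three
  have hAB : A.card = Fintype.card F - B.card := by
    rw [hA, Finset.card_sdiff_of_subset (Finset.subset_univ _), Finset.card_univ]
  have hq5 : Fintype.card F = 5 := by omega
  have hB3' : B.card = 3 := by omega
  have hA2' : A.card = 2 := by omega
  refine ⟨hq5, ?_⟩
  -- distinctness of `0, 1, 1 - s`
  have h01 : (0 : F) ≠ 1 := zero_ne_one
  have h0s : (0 : F) ≠ 1 - s := by
    intro h0
    have hsub : B ⊆ {0, 1} := by
      intro x hx
      simp only [hB, Finset.mem_insert, Finset.mem_singleton] at hx ⊢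
      rcases hx with hx | hx | hx
      · exact Or.inl hx
      · exact Or.inr hx
      · rw [← h0] at hx
        tauto
    have := Finset.card_le_card hsub
    have := Finset.card_le_two (a := (0 : F)) (b := 1)
    omega
  have h1s : (1 : F) ≠ 1 - s := by
    intro h0
    have hsub : B ⊆ {0, 1} := by
      intro x hx
      simp only [hB, Finset.mem_insert, Finset.mem_singleton] at hx ⊢
      rcases hx with hx | hx | hx
      · exact Or.inl hx
      · exact Or.inr hx
      · rw [← h0] at hx
        tauto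
    have := Finset.card_le_card hsub
    have := Finset.card_le_two (a := (0 : F)) (b := 1)
    omega
  have hsumB : ∑ x ∈ B, x = 2 - s := by
    rw [hB, Finset.sum_insert (by simp [h01, h0s]), Finset.sum_insert (by simp [h1s]),
      Finset.sum_singleton]
    ring
  obtain ⟨α, β, hαβ, hAeq⟩ := Finset.card_eq_two.1 hA2'
  have hsumA : ∑ x ∈ A, x = 2 - s := by
    have hα : α ∈ A := by rw [hAeq]; simp
    have hβ : β ∈ A := by rw [hAeq]; simp
    rw [hAeq, Finset.sum_pair hαβ, hsum α hα β hβ hαβ, hb]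
    ring
  have htot : ∑ x : F, x = 0 := by
    have := FiniteField.sum_pow_lt_card_sub_one F 1 (by omega)
    simpa using this
  have hsplit : ∑ x : F, x = ∑ x ∈ A, x + ∑ x ∈ B, x := by
    rw [hA, Finset.sum_sdiff (Finset.subset_univ B)]
  rw [htot, hsumA, hsumB] at hsplit
  have h5 : ((5 : ℕ) : F) = 0 := by
    rw [← hq5]
    exact FiniteField.cast_card_eq_zero F
  have h2 : (2 : F) ≠ 0 := by
    intro h20
    apply h01
    push_cast at h5
    linear_combination 2 * h20 - h5
  have : (2 : F) * (2 - s) = 0 := by linear_combination -hsplit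
  rcases mul_eq_zero.1 this with h3 | h3
  · exact absurd h3 h2
  · linear_combination -h3

/-- (e3) for `q = 5` the weight is exactly two -/
theorem wt_two (hq : 5 ≤ Fintype.card F) {L : Subgroup (GL κ F)}
    (hL : ∀ g : GL κ F, IsMono (g : Matrix κ κ F) → g ∈ L) (hT : ¬ HasTvGL L)
    {w φ : κ → F} (h : (w, φ) ∈ Pset L) (hs : 2 ≤ (vsupp w).card) : (vsupp w).card = 2 := by
  classical
  by_contra hne
  have hs3 : 3 ≤ (vsupp w).card := by omega
  obtain ⟨hq5, hs2⟩ := five hq hL hT h hs
  obtain ⟨o, ho⟩ : ∃ o, o ∈ vsupp w := Finset.card_pos.1 (by omega)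
  rw [mem_vsupp] at ho
  obtain ⟨g, hg, o₀, hw, hφ⟩ := id h
  simp only at hw hφ
  have hk := pset_card (by omega) hL hT h o ho
  rw [hs2] at hk
  have hφo : φ o ≠ 0 := by
    intro h0
    rw [h0, mul_zero, mul_zero] at hk
    exact zero_ne_one hk
  have h2 : (2 : F) ≠ 0 := by
    intro h20
    rw [h20, zero_mul] at hk
    exact zero_ne_one hk
  have hm1 : (-1 : F) ≠ 0 := neg_ne_zero.2 one_ne_zero
  have hp := pset_smul (pset_one L o) (homGL g o₀ (-1) hm1) (homGL_mem hL hg o₀ (-1) hm1)
  rw [homGL_mulVec, vecMul_homGL_inv, ← hw, ← hφ, dotProduct_single_one,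
    single_one_dotProduct] at hp
  set v' : κ → F := Pi.single o 1 + ((-1 - 1) * φ o) • w with hv'
  have hv'o : v' o = 0 := by
    simp only [hv', Pi.add_apply, Pi.single_eq_same, Pi.smul_apply, smul_eq_mul]
    linear_combination -hk
  have hv'r : ∀ r, r ≠ o → v' r = (-1 - 1) * φ o * w r := by
    intro r hr
    simp [hv', Pi.single_eq_of_ne hr]
  have hsupp : vsupp v' = (vsupp w).erase o := by
    ext r
    rw [Finset.mem_erase, mem_vsupp, mem_vsupp]
    by_cases hr : r = o
    · rw [hr, hv'o]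
      simp
    · rw [hv'r r hr]
      constructor
      · intro h1
        refine ⟨hr, fun h3 => h1 ?_⟩
        rw [h3, mul_zero]
      · intro h1
        refine mul_ne_zero (mul_ne_zero ?_ hφo) h1.2
        intro h3
        apply h2
        linear_combination -h3
  have hcard : (vsupp v').card = (vsupp w).card - 1 := by
    rw [hsupp, Finset.card_erase_of_mem ((mem_vsupp _ _).2 ho)]
  obtain ⟨-, hs2'⟩ := five hq hL hT hp (by omega)
  rw [hcard, Nat.cast_sub (by omega), hs2] at hs2'
  apply zero_ne_one (α := F)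
  push_cast at hs2'
  linear_combination hs2'

end PkG6

end Cfsg.Agent.Lib.Helper6.C2Max
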