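import Cfsg.Agent.Lib.Helper6.C2Max.F1
import Cfsg.Agent.Lib.Helper6.C2Max.F3core
import Cfsg.Agent.Lib.Helper6.C2Max.F4core
import Cfsg.Agent.Lib.Helper5.C2Max_A
import Cfsg.Agent.Lib.Helper7.C2Max_F2core
import Cfsg.Agent.Lib.Helper4.C2Max_GLUE

set_option autoImplicit false

/-!
# S5634: the monomial case (assembly)
-/

namespace Cfsg.Agent.Lib.Helper6.C2Max

open Matrix

variable {F : Type*} [Field F] [Fintype F] {ι : Type*} [Fintype ι] [DecidableEq ι]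

/-- PK-F2a (helper7) -/
theorem moved_le_three (h13 : 13 ≤ Fintype.card ι) (hq : 5 ≤ Fintype.card F)
    {K : Subgroup (SpecialLinearGroup ι F)} (hK : Over K) (hT : ¬ HasTv K)
    (y : SpecialLinearGroup ι F) (hy : y ∈ K) (hnm : ¬ IsMono y.1) (j a b c : ι)
    (hab : a ≠ b) (hac : a ≠ c) (hbc : b ≠ c)
    (ha : y.1 a j ≠ 0) (hb : y.1 b j ≠ 0) (hc : y.1 c j ≠ 0) :
    Set.ncard {r : ι | ¬ (y.1 a r * y.1 b j = y.1 b r * y.1 a j ∧
      y.1 a r * y.1 c j = y.1 c r * y.1 a j)} ≤ 3 :=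
  PkF2.moved_le_three_of (by omega) hK
    (fun g hg j j' h => mono_of_col h13 hq hK hT g hg j j' h) y hy
    (fun j a b hab ha hb => col_zero_unique h13 hq hK hT y hy hnm j a b hab ha hb)
    j a b c hab hac hbc ha hb hc

/-- PK-F2b (helper7) -/
theorem minor_zero (h13 : 13 ≤ Fintype.card ι) (hq : 5 ≤ Fintype.card F)
    {K : Subgroup (SpecialLinearGroup ι F)} (hK : Over K) (hT : ¬ HasTv K)
    (y : SpecialLinearGroup ι F) (hy : y ∈ K) (hnm : ¬ IsMono y.1) (a b r s : ι)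
    (hab : a ≠ b) (hrs : r ≠ s) (h1 : y.1 a r ≠ 0) (h2 : y.1 a s ≠ 0) (h3 : y.1 b r ≠ 0)
    (h4 : y.1 b s ≠ 0) : y.1 a r * y.1 b s = y.1 a s * y.1 b r :=
  PkF2.minor_zero_of (by omega) hK
    (fun g hg j j' h => mono_of_col h13 hq hK hT g hg j j' h) y hy
    (fun j a b hab ha hb => col_zero_unique h13 hq hK hT y hy hnm j a b hab ha hb)
    a b r s hab hrs h1 h2 h3 h4

theorem exists_rankone (h13 : 13 ≤ Fintype.card ι) (hq : 5 ≤ Fintype.card F)
    {K : Subgroup (SpecialLinearGroup ι F)} (hK : Over K) (hT : ¬ HasTv K)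
    (hnm : ∃ y ∈ K, ¬ IsMono (y : SpecialLinearGroup ι F).1) :
    ∃ y ∈ K, ¬ IsMono (y : SpecialLinearGroup ι F).1 ∧ ∃ (ρ σ : ι → F) (S : Finset ι),
      (∀ a, ρ a ≠ 0) ∧ (∀ a, σ a ≠ 0) ∧ 3 ≤ S.card ∧
      ∀ a b, y.1 a b = if a = b ∧ a ∈ S then 0 else ρ a * σ b :=
  PkF3.exists_rankone_of h13 hK
    (fun y hy hnm j a b hab ha hb => col_zero_unique h13 hq hK hT y hy hnm j a b hab ha hb)
    (fun y hy hnm j a b hab ha hb => row_zero_unique h13 hq hK hT y hy hnm j a b hab ha hb)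
    (fun y hy hnm a b r s hab hrs h1 h2 h3 h4 =>
      minor_zero h13 hq hK hT y hy hnm a b r s hab hrs h1 h2 h3 h4) hnm

theorem rankone_absurd (h13 : 13 ≤ Fintype.card ι) (hq : 5 ≤ Fintype.card F)
    {K : Subgroup (SpecialLinearGroup ι F)} (hK : Over K) (hT : ¬ HasTv K)
    (y : SpecialLinearGroup ι F) (hy : y ∈ K) (hnm : ¬ IsMono y.1) (ρ σ : ι → F) (S : Finset ι)
    (hρ : ∀ a, ρ a ≠ 0) (hσ : ∀ a, σ a ≠ 0) (hS : 3 ≤ S.card)
    (hform : ∀ a b, y.1 a b = if a = b ∧ a ∈ S then 0 else ρ a * σ b) : False :=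
  PkF4.rankone_absurd_of h13 hq hK
    (fun y hy hnm j a b hab ha hb => col_zero_unique h13 hq hK hT y hy hnm j a b hab ha hb)
    y hy ρ σ S hρ hσ hS hform

/-- the monomial case: an overgroup of the monomial group is monomial or everything -/
theorem mono_core (h13 : 13 ≤ Fintype.card ι) (hq : 5 ≤ Fintype.card F)
    (K : Subgroup (SpecialLinearGroup ι F)) (hK : Over K) :
    (∀ g ∈ K, IsMono (g : SpecialLinearGroup ι F).1) ∨ K = ⊤ := by
  by_cases hT : HasTv K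
  · exact Or.inr (top_of_hasTv (by omega) hK hT)
  · left
    by_contra h
    push Not at h
    obtain ⟨y, hy, hnm, ρ, σ, S, hρ, hσ, hS, hform⟩ := exists_rankone h13 hq hK hT h
    exact rankone_absurd h13 hq hK hT y hy hnm ρ σ S hρ hσ hS hform

end Cfsg.Agent.Lib.Helper6.C2Max
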